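import Cfsg.Statements.S3225
import Mathlib
import Cfsg.Agent.Lib.Transfer.Thompson

set_option autoImplicit false
open Cfsg

namespace Cfsg.Agent.S3225

open Cfsg.Lib


/-- Let G be a finite group of even order with no subgroup of index 2, S a Sylow 2-subgroup of G and M a subgroup of index 2 in S such that, for some n ≥ 1, every element of S outside M has order greater than 2^(n−1). Then every element of S of order 2ⁿ is conjugate in G to an element of M. -/
theorem result {G : Type*} [Group G] [Finite G] (hev : Even (Nat.card G))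
    (hG : ∀ H : Subgroup G, H.index ≠ 2) (S : Sylow 2 G) (M : Subgroup G) (hMS : M ≤ (S : Subgroup G)) (hM : M.relIndex (S : Subgroup G) = 2)
    (n : ℕ) (hn : 1 ≤ n) (hord : ∀ y ∈ (S : Subgroup G), y ∉ M → 2 ^ (n - 1) < orderOf y)
    (x : G) (hx : x ∈ (S : Subgroup G)) (hxn : orderOf x = 2 ^ n) :
    ∃ g : G, g * x * g⁻¹ ∈ M := by
  by_contra hcon
  push Not at hcon
  refine not_mem_pResidual_two_of_parity (sylow_two_index_odd S) hM x (fun k g hg => ?_)
    (by rw [pResidual_two_eq_top_iff.2 hG]; trivial)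
  constructor
  · intro h
    by_contra hk
    have hodd : Odd k := Nat.not_even_iff_odd.1 hk
    have hcop : (orderOf x).Coprime k := by
      rw [hxn]; exact Nat.Coprime.pow_left _ (Nat.coprime_two_left.2 hodd)
    obtain ⟨m, hm⟩ := exists_pow_eq_self_of_coprime hcop.symm
    apply hcon g⁻¹
    have := M.pow_mem h m
    rw [show g⁻¹ * x ^ k * g = g⁻¹ * x ^ k * g⁻¹⁻¹ by rw [inv_inv], conj_pow, hm] at this
    exact this
  · rintro ⟨j, rfl⟩
    by_contra h
    have h1 := hord _ hg h
    have h2 : (g⁻¹ * x ^ (j + j) * g) ^ 2 ^ (n - 1) = 1 := by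
      rw [show g⁻¹ * x ^ (j + j) * g = g⁻¹ * x ^ (j + j) * g⁻¹⁻¹ by rw [inv_inv], conj_pow,
        ← pow_mul, ← two_mul, mul_comm 2 j, mul_assoc j, ← pow_succ', Nat.sub_add_cancel hn, mul_comm j,
        pow_mul, ← hxn, pow_orderOf_eq_one]
      simp
    exact absurd (Nat.le_of_dvd (by positivity) (orderOf_dvd_of_pow_eq_one h2)) (not_le.2 h1)

end Cfsg.Agent.S3225
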