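import Cfsg.Statements.S3304
import Mathlib
import Cfsg.Agent.Lib.Solv.AutQ8

set_option autoImplicit false
open Cfsg

namespace Cfsg.Agent.S3304

open Subgroup Cfsg.Lib

/-- Let G be a finite solvable group in which the intersection of any two distinct Sylow 2-subgroups has 2-rank at most 1 (contains no Klein four-group). Write Q = G/O(G), O(G) the largest normal subgroup of odd order. Then Q has a normal Sylow 2-subgroup; or Q is isomorphic to GL(2,3); or Q has order 48, centre of order 2 with central quotient isomorphic to the symmetric group of degree 4, and generalized quaternion Sylow 2-subgroups of order 16 (the binary octahedral group). The last two are the two representation groups of the symmetric group of degree 4. -/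
theorem result {G : Type*} [Group G] [Finite G] (hs : Group.IsSolvable G)
    (hI : ∀ S T : Sylow 2 G, S ≠ T → Cfsg.PRankLE 2 1 ↥((S : Subgroup G) ⊓ (T : Subgroup G))) :
    (∃ P : Sylow 2 (G ⧸ Cfsg.oddCore G), (P : Subgroup (G ⧸ Cfsg.oddCore G)).Normal) ∨
    Nonempty ((G ⧸ Cfsg.oddCore G) ≃* GL (Fin 2) (ZMod 3)) ∨
    (Nat.card (G ⧸ Cfsg.oddCore G) = 48 ∧ Nat.card ↥(Subgroup.center (G ⧸ Cfsg.oddCore G)) = 2 ∧
      Nonempty ((G ⧸ Cfsg.oddCore G) ⧸ Subgroup.center (G ⧸ Cfsg.oddCore G) ≃* Equiv.Perm (Fin 4)) ∧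
      ∀ P : Sylow 2 (G ⧸ Cfsg.oddCore G), Nonempty (↥(P : Subgroup (G ⧸ Cfsg.oddCore G)) ≃* QuaternionGroup 4)) := by
  by_cases hn : ∃ P : Sylow 2 (G ⧸ oddCore G), (P : Subgroup (G ⧸ oddCore G)).Normal
  · exact Or.inl hn
  right
  push Not at hn
  have h : centralizer (pCore 2 (G ⧸ oddCore G) : Set (G ⧸ oddCore G)) ≤ pCore 2 (G ⧸ oddCore G) :=
    centralizer_pCore_le_of_isSolvable inferInstance pPrimeCore_quotient_pPrimeCore
  obtain ⟨S⟩ : Nonempty (Sylow 2 (G ⧸ oddCore G)) := inferInstance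
  have h3 : ¬ IsPGroup 2 (G ⧸ oddCore G) := fun hc => hn S (by
    rw [S.is_maximal' (hc.to_subgroup ⊤) le_top |>.symm]; infer_instance)
  obtain ⟨T, hST⟩ := exists_sylow_ne_of_not_normal S (hn S)
  obtain ⟨S₀, T₀, h1, R, h2, hR⟩ := exists_sylow_lift _ (QuotientGroup.mk'_surjective _) S T hST
  have hp : IsPGroup 2 ↥((S₀ : Subgroup G) ⊓ T₀) := S₀.isPGroup'.to_inf_left
  have hu := pg_unique_involution_of_rank_one hp fun A hA hc => by
    have := hI S₀ T₀ h1 A hA.1 hA.2
    omega
  have key : ∀ x : pCore 2 (G ⧸ oddCore G), orderOf x = 2 → ∃ r : ↥((S₀ : Subgroup G) ⊓ T₀),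
      orderOf r = 2 ∧ QuotientGroup.mk' (oddCore G) r = x := by
    intro x hx
    obtain ⟨r, hr, e⟩ : (x : G ⧸ oddCore G) ∈ R.map (QuotientGroup.mk' (oddCore G)) :=
      hR ▸ mem_inf.mpr ⟨IsPGroup.le_sylow_of_normal isPGroup_pCore S x.2,
        IsPGroup.le_sylow_of_normal isPGroup_pCore T x.2⟩
    refine ⟨⟨r, h2 hr⟩, orderOf_eq_prime (Subtype.ext ?_) fun hc => ?_, e⟩
    · have h4 : r ^ 2 ∈ oddCore G := by
        rw [← QuotientGroup.ker_mk' (oddCore G), MonoidHom.mem_ker, map_pow, e, ← coe_pow,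
          show x ^ 2 = 1 from orderOf_dvd_iff_pow_eq_one.mp hx.dvd, coe_one]
      exact eq_one_of_mem_of_coprime hp (pow_mem (h2 hr) 2) (Nat.coprime_two_right.mpr
        (odd_card_oddCore.of_dvd_nat (Subgroup.orderOf_dvd_natCard _ h4)))
    · rw [show r = 1 from congrArg Subtype.val hc, map_one] at e
      rw [show x = 1 from Subtype.ext e.symm, orderOf_one] at hx
      omega
  rcases pg_isCyclic_or_quaternion_of_unique_involution (isPGroup_pCore (G := G ⧸ oddCore G))
    (fun x y hx hy => by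
      obtain ⟨r, hr, e⟩ := key x hx
      obtain ⟨r', hr', e'⟩ := key y hy
      exact Subtype.ext (by rw [← e, ← e', hu r r' hr hr'])) with hc | ⟨n, ⟨e⟩⟩
  · exact absurd (isPGroup_of_charP_of_forall h fun g hg =>
      mem_centralizer_of_odd_of_isCyclic isPGroup_pCore hc (le_normalizer_of_normal (mem_top g)) hg) h3
  · rcases n with _ | n
    · exact gl_or_binOct_of_pCore_q8 h e hn
    · exact absurd (isPGroup_of_charTwo_of_pCore_quaternion h (by omega) e) h3

end Cfsg.Agent.S3304
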