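import Cfsg.Statements.S1774
import Mathlib
import Cfsg.Agent.Lib.Misc.Extraspecial2
import Cfsg.Agent.Lib.Coprime.Sylow

set_option autoImplicit false
open Cfsg

namespace Cfsg.Agent.S1774

open Cfsg.Lib

theorem aux {G : Type*} [Group G] [Finite G] {Q : Subgroup G} {z : G} (h : XC Q z)
    (hP : IsPGroup 2 Q) (hN : ∀ c, c * z = z * c → c ∈ Subgroup.normalizer (Q : Set G))
    (hC : ∀ x, x * z = z * x → (∀ q ∈ Q, x * q = q * x) → x ∈ Q)
    (hZ : ∀ x ∈ Q, (∀ q ∈ Q, x * q = q * x) → x * x = 1 → x = 1 ∨ x = z)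
    (g : G) (hne : g * z * g⁻¹ ≠ z) (hin : g * z * g⁻¹ ∈ Q) :
    z ∈ Q.map (MulAut.conj g).toMonoidHom ∧
      ∀ u ∈ Subgroup.closure ({z, g * z * g⁻¹} : Set G), ∀ v ∈ Subgroup.closure ({z, g * z * g⁻¹} : Set G),
        u ≠ 1 → v ≠ 1 → u ≠ v →
          ∃ x ∈ Q ⊔ Q.map (MulAut.conj g).toMonoidHom, x * z * x⁻¹ = u ∧ x * (g * z * g⁻¹) * x⁻¹ = v := by
  haveI : Fact (Nat.Prime 2) := ⟨Nat.prime_two⟩
  have hR := h.conj_XC g
  have hPR : IsPGroup 2 (Q.map (MulAut.conj g).toMonoidHom) := hP.map _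
  have hcomm : ∀ a b : G, g⁻¹ * a * g * (g⁻¹ * b * g) = g⁻¹ * b * g * (g⁻¹ * a * g) ↔ a * b = b * a := by
    intro a b
    rw [show g⁻¹ * a * g * (g⁻¹ * b * g) = g⁻¹ * (a * b) * g by group,
      show g⁻¹ * b * g * (g⁻¹ * a * g) = g⁻¹ * (b * a) * g by group, mul_left_inj, mul_right_inj]
  have ez : z = g⁻¹ * (g * z * g⁻¹) * g := by group
  have hNR : ∀ c, c * (g * z * g⁻¹) = (g * z * g⁻¹) * c →
      c ∈ Subgroup.normalizer (Q.map (MulAut.conj g).toMonoidHom : Set G) := by
    intro c hc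
    rw [normalizer_map_conj, mem_map_conj]
    apply hN
    rw [ez, hcomm]; exact hc
  have hCR : ∀ x, x * (g * z * g⁻¹) = (g * z * g⁻¹) * x →
      (∀ q ∈ Q.map (MulAut.conj g).toMonoidHom, x * q = q * x) → x ∈ Q.map (MulAut.conj g).toMonoidHom := by
    intro x hx h1
    rw [mem_map_conj]
    refine hC _ (by rw [ez, hcomm]; exact hx) fun q hq => ?_
    rw [show q = g⁻¹ * (g * q * g⁻¹) * g by group, hcomm]
    exact h1 _ (h9_conj_mem_conj g hq)
  have hZR : ∀ x ∈ Q.map (MulAut.conj g).toMonoidHom,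
      (∀ q ∈ Q.map (MulAut.conj g).toMonoidHom, x * q = q * x) → x * x = 1 → x = 1 ∨ x = g * z * g⁻¹ := by
    intro x hx h1 h2
    rw [mem_map_conj] at hx
    rcases hZ _ hx (fun q hq => by
      rw [show q = g⁻¹ * (g * q * g⁻¹) * g by group, hcomm]
      exact h1 _ (h9_conj_mem_conj g hq)) (by
      rw [show g⁻¹ * x * g * (g⁻¹ * x * g) = g⁻¹ * (x * x) * g by group, h2]; group) with h3 | h3
    · left; rw [show x = g * (g⁻¹ * x * g) * g⁻¹ by group, h3]; group
    · right; rw [← h3]; group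
  have hQR : ∀ y, y * z * y⁻¹ = g * z * g⁻¹ → ∀ a ∈ Q, y * a * y⁻¹ ∈ Q.map (MulAut.conj g).toMonoidHom := by
    intro y hy a ha
    rw [mem_map_conj]
    have h1 : g⁻¹ * y ∈ Subgroup.normalizer (Q : Set G) := by
      apply hN
      rw [← mul_inv_eq_iff_eq_mul, show g⁻¹ * y * z * (g⁻¹ * y)⁻¹ = g⁻¹ * (y * z * y⁻¹) * g by group, hy]
      group
    have := h9_conj_mem_of_mem_normalizer h1 ha
    rwa [show g⁻¹ * y * a * (g⁻¹ * y)⁻¹ = g⁻¹ * (y * a * y⁻¹) * g by group] at this
  clear hcomm ez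
  generalize Q.map (MulAut.conj g).toMonoidHom = R at *
  generalize g * z * g⁻¹ = w at *
  have hz2 := h.sq
  have hw2 := hR.sq
  have hzw : w * z = z * w := h.central w hin
  have hq : ∃ q ∈ Q, w * q ≠ q * w := by
    by_contra hcon
    push Not at hcon
    rcases hZ w hin hcon hw2 with h1 | h1
    · exact hR.ne_one h1
    · exact hne h1
  have hidx := h.relIndex_centralizer hin hq
  obtain ⟨q, hq, hqw⟩ := hq
  have hq1 : q * z * q⁻¹ = z := by rw [h.central q hq]; group
  have hq2 : q * w * q⁻¹ = z * w := by rw [h.conj_of_ne hq hin hqw.symm, hzw]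
  have hq3 : q * (z * w) * q⁻¹ = w := by
    rw [show q * (z * w) * q⁻¹ = (q * z * q⁻¹) * (q * w * q⁻¹) by group, hq1, hq2, ← mul_assoc, hz2,
      one_mul]
  have hswap : ∀ x, x * z * x⁻¹ = z * w → x * w * x⁻¹ = w → x * (z * w) * x⁻¹ = z := by
    intro x h1 h2
    rw [show x * (z * w) * x⁻¹ = (x * z * x⁻¹) * (x * w * x⁻¹) by group, h1, h2, mul_assoc, hw2, mul_one]
  have hcj : ∀ a b c : G, (a * b) * c * (a * b)⁻¹ = a * (b * c * b⁻¹) * a⁻¹ := fun a b c => by group
  have hzR : z ∈ R := by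
    by_contra hzR
    set D := Subgroup.centralizer ({z} : Set G) ⊓ Subgroup.centralizer ({w} : Set G) with hD
    have hmemD : ∀ x, x ∈ D ↔ x * z = z * x ∧ x * w = w * x := fun x => by
      rw [hD, Subgroup.mem_inf, Subgroup.mem_centralizer_singleton_iff,
        Subgroup.mem_centralizer_singleton_iff]
    obtain ⟨T, hT⟩ := exists_isSylowIn 2 D
    have hTQ : T ≤ Subgroup.normalizer (Q : Set G) := fun t ht => hN t ((hmemD t).1 (hT.le ht)).1
    have hTR : T ≤ Subgroup.normalizer (R : Set G) := fun t ht => hNR t ((hmemD t).1 (hT.le ht)).2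
    have hQT : Q ⊓ D ≤ T := hT.le_of_normalizes (hP.to_le inf_le_left) inf_le_right (fun t ht =>
      h9_mem_normalizer_of_conj_mem fun x hx => ⟨h9_conj_mem_of_mem_normalizer (hTQ ht) hx.1,
        D.mul_mem (D.mul_mem (hT.le ht) hx.2) (D.inv_mem (hT.le ht))⟩)
    have hzT : z ∈ T := hQT ⟨h.mem, (hmemD z).2 ⟨rfl, hzw.symm⟩⟩
    have hTRp : IsPGroup 2 (T ⊔ R : Subgroup G) := hT.isPGroup.to_sup_of_normal_right' hPR hTR
    have hTRw : T ⊔ R ≤ Subgroup.centralizer ({w} : Set G) :=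
      sup_le (fun t ht => (hT.le ht).2) (fun r hr => Subgroup.mem_centralizer_singleton_iff.2 (hR.central r hr))
    obtain ⟨x, hx, hxT, hxN⟩ := h9_exists_normalizer_not_mem hTRp le_sup_left (fun he => hzR (by
      refine hCR z hzw.symm fun r hr => ?_
      have : r ∈ T := he ▸ Subgroup.mem_sup_right hr
      exact ((hmemD r).1 (hT.le this)).1.symm))
    have hxw : x * w = w * x := Subgroup.mem_centralizer_singleton_iff.1 (hTRw hx)
    have hxz : x * z ≠ z * x := by
      intro hxz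
      apply hxT
      refine hT.le_of_le_normalizer (R := Subgroup.zpowers x)
        (hTRp.to_le ((Subgroup.zpowers_le_of_mem hx))) (Subgroup.zpowers_le_of_mem ((hmemD x).2 ⟨hxz, hxw⟩))
        (Subgroup.zpowers_le_of_mem hxN) (Subgroup.mem_zpowers x)
    have hy1 : x * z * x⁻¹ ∈ T := h9_conj_mem_of_mem_normalizer hxN hzT
    have hy2 : ∀ t ∈ T, x * z * x⁻¹ * t = t * (x * z * x⁻¹) := by
      intro t ht
      have h1 := ((hmemD _).1 (hT.le (h9_conj_mem_of_mem_normalizer' hxN ht))).1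
      calc x * z * x⁻¹ * t = x * (z * (x⁻¹ * t * x)) * x⁻¹ := by group
        _ = _ := by rw [← h1]; group
    have hy3 : x * z * x⁻¹ * (x * z * x⁻¹) = 1 := by
      rw [show x * z * x⁻¹ * (x * z * x⁻¹) = x * (z * z) * x⁻¹ by group, hz2]; group
    have hy4 : x * z * x⁻¹ ≠ z := fun h1 => hxz (mul_inv_eq_iff_eq_mul.1 h1)
    have hy5 : x * z * x⁻¹ ≠ w := fun h1 => hne (by
      calc w = x⁻¹ * (w * x) := by rw [← hxw]; group
        _ = x⁻¹ * (x * z * x⁻¹ * x) := by rw [h1]
        _ = z := by group)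
    have hy6 : x * z * x⁻¹ ≠ 1 := fun h1 => h.ne_one (by
      rw [show z = x⁻¹ * (x * z * x⁻¹) * x by group, h1]; group)
    have hy : x * z * x⁻¹ = z * w := by
      generalize x * z * x⁻¹ = y at *
      have hyw : y * w = w * y := ((hmemD y).1 (hT.le hy1)).2
      have hyz : y * z = z * y := ((hmemD y).1 (hT.le hy1)).1
      have hyQ : ∀ a ∈ Q, a * w = w * a → y * a = a * y := fun a ha h1 =>
        hy2 a (hQT ⟨ha, (hmemD a).2 ⟨h.central a ha, h1⟩⟩)
      have hle : (Subgroup.centralizer ({y} : Set G)).relIndex Q ≤ 2 := by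
        rw [← hidx, ← Subgroup.inf_relIndex_right (Subgroup.centralizer ({w} : Set G))]
        refine Subgroup.relIndex_le_of_le_left ?_ Subgroup.FiniteIndex.index_ne_zero
        intro a ha
        exact Subgroup.mem_centralizer_singleton_iff.2
          (hyQ a ha.2 (Subgroup.mem_centralizer_singleton_iff.1 ha.1)).symm
      have hm : ∀ a ∈ Q, ∀ b ∈ Q, (a * b ∈ Subgroup.centralizer ({w} : Set G) ↔
          (a ∈ Subgroup.centralizer ({w} : Set G) ↔ b ∈ Subgroup.centralizer ({w} : Set G))) :=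
        fun a ha b hb => Subgroup.mul_mem_iff_of_index_two
          (H := (Subgroup.centralizer ({w} : Set G)).subgroupOf Q) hidx (a := ⟨a, ha⟩) (b := ⟨b, hb⟩)
      simp only [Subgroup.mem_centralizer_singleton_iff] at hm
      have hext : ∀ c, (∀ a ∈ Q, a * w = w * a → c * a = a * c) → c * q = q * c →
          ∀ a ∈ Q, c * a = a * c := by
        intro c h1 h2 a ha
        by_cases haw : a * w = w * a
        · exact h1 a ha haw
        · have h3 := h1 _ (Q.mul_mem hq ha) ((hm q hq a ha).2 (iff_of_false (Ne.symm hqw) haw))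
          apply mul_left_cancel (a := q)
          rw [← mul_assoc, ← h2, mul_assoc, h3, mul_assoc]
      obtain ⟨h1, h2, h3⟩ := h9_central_of_relIndex_le_two hy3 (hTQ hy1) hle hq
      rcases hZ _ h1 h3 h2 with h4 | h4
      · rw [inv_mul_eq_one, eq_mul_inv_iff_mul_eq] at h4
        have h5 := hext y hyQ h4.symm
        rcases hZ y (hC y hyz h5) h5 hy3 with h6 | h6
        · exact absurd h6 hy6
        · exact absurd h6 hy4
      · have h5 := hext (y * w) (fun a ha h5 => by
          rw [mul_assoc, ← h5, ← mul_assoc, hyQ a ha h5, mul_assoc]) (by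
          rw [inv_mul_eq_iff_eq_mul, mul_inv_eq_iff_eq_mul] at h4
          rw [mul_assoc, h.of_ne hin hq hqw, ← mul_assoc, ← mul_assoc, h4, mul_assoc q, mul_assoc q,
            mul_assoc q]
          congr 1
          rw [← hyz, mul_assoc y, ← hzw, mul_assoc, mul_assoc, hz2, mul_one])
        rcases hZ _ (hC _ (by rw [mul_assoc, hzw, ← mul_assoc, hyz, mul_assoc]) h5) h5 (by
          rw [mul_assoc, ← mul_assoc w, ← hyw, mul_assoc, hw2, mul_one, hy3]) with h6 | h6
        · exact absurd (by rw [← mul_one y, ← hw2, ← mul_assoc, h6, one_mul]) hy5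
        · rw [← h6, mul_assoc, hw2, mul_one]
    have hx2 : x * w * x⁻¹ = w := by rw [hxw]; group
    have hx3 := hswap x hy hx2
    have := hQR (x * q * x) (by rw [hcj, hcj, hy, hq3, hx2]) w hin
    rw [hcj, hcj, hx2, hq2, hx3] at this
    exact hzR this
  refine ⟨hzR, ?_⟩
  obtain ⟨r, hr, hrz⟩ : ∃ r ∈ R, z * r ≠ r * z := by
    by_contra hcon
    push Not at hcon
    rcases hZR z hzR hcon hz2 with h1 | h1
    · exact h.ne_one h1
    · exact hne h1.symm
  have hr1 : r * z * r⁻¹ = z * w := hR.conj_of_ne hr hzR hrz.symm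
  have hr2 : r * w * r⁻¹ = w := by rw [hR.central r hr]; group
  have hr3 := hswap r hr1 hr2
  have hmem : ∀ u ∈ Subgroup.closure ({z, w} : Set G), u = 1 ∨ u = z ∨ u = w ∨ u = z * w := by
    intro u hu
    induction hu using Subgroup.closure_induction with
    | mem x hx => rcases hx with rfl | rfl <;> simp
    | one => simp
    | mul x y _ _ hx hy =>
      have e1 : w * (z * w) = z := by rw [← mul_assoc, hzw, mul_assoc, hw2, mul_one]
      have e2 : z * (z * w) = w := by rw [← mul_assoc, hz2, one_mul]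
      have e3 : z * w * z = w := by rw [mul_assoc, hzw, e2]
      have e4 : z * w * w = z := by rw [mul_assoc, hw2, mul_one]
      have e5 : z * w * (z * w) = 1 := by rw [← mul_assoc, e3, hw2]
      rcases hx with rfl | rfl | rfl | rfl <;> rcases hy with rfl | rfl | rfl | rfl <;> simp [*]
    | inv x _ hx =>
      have e5 : z * w * (z * w) = 1 := by rw [← mul_assoc, mul_assoc z, hzw, ← mul_assoc, hz2, one_mul, hw2]
      rcases hx with rfl | rfl | rfl | rfl
      · simp
      · simp [inv_eq_of_mul_eq_one_right hz2]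
      · simp [inv_eq_of_mul_eq_one_right hw2]
      · rw [inv_eq_of_mul_eq_one_right e5]; simp
  have hqX : q ∈ Q ⊔ R := Subgroup.mem_sup_left hq
  have hrX : r ∈ Q ⊔ R := Subgroup.mem_sup_right hr
  intro u hu v hv hu1 hv1 huv
  rcases (hmem u hu).resolve_left hu1 with rfl | rfl | rfl <;>
    rcases (hmem v hv).resolve_left hv1 with rfl | rfl | rfl
  · exact absurd rfl huv
  · exact ⟨1, Subgroup.one_mem _, by simp, by simp⟩
  · exact ⟨q, hqX, hq1, hq2⟩
  · exact ⟨r * q * r, Subgroup.mul_mem _ (Subgroup.mul_mem _ hrX hqX) hrX, by rw [hcj, hcj, hr1, hq3, hr2],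
      by rw [hcj, hcj, hr2, hq2, hr3]⟩
  · exact absurd rfl huv
  · exact ⟨q * r, Subgroup.mul_mem _ hqX hrX, by rw [hcj, hr1, hq3], by rw [hcj, hr2, hq2]⟩
  · exact ⟨r * q, Subgroup.mul_mem _ hrX hqX, by rw [hcj, hq1, hr1], by rw [hcj, hq2, hr3]⟩
  · exact ⟨r, hrX, hr1, hr2⟩
  · exact absurd rfl huv

/-- Let G be a finite group and let z be an involution of G such that Q, the generalized Fitting subgroup of the centralizer C of z, is a 2-group of symplectic type (every characteristic abelian subgroup of Q is cyclic); suppose every element of Q has order dividing 4. Let g ∈ G with z' = g z g⁻¹ ≠ z and z' ∈ Q. Then z lies in the conjugate g Q g⁻¹, and the subgroup X generated by Q and g Q g⁻¹ induces every automorphism of the four-group generated by z and z': for any two distinct non-identity elements u, v of that four-group there is x ∈ X with x z x⁻¹ = u and x z' x⁻¹ = v. -/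
theorem result {G : Type*} [Group G] [Finite G] (z : G) (hz : orderOf z = 2) (hQ : Cfsg.IsOfSymplecticType ↥(Cfsg.generalizedFittingSubgroup ↥(Subgroup.centralizer ({z} : Set G))))
    (h4 : ∀ q ∈ (Cfsg.generalizedFittingSubgroup ↥(Subgroup.centralizer ({z} : Set G))).map (Subgroup.centralizer ({z} : Set G)).subtype, q ^ 4 = 1) (g : G) (hne : g * z * g⁻¹ ≠ z) (hin : g * z * g⁻¹ ∈ (Cfsg.generalizedFittingSubgroup ↥(Subgroup.centralizer ({z} : Set G))).map (Subgroup.centralizer ({z} : Set G)).subtype) :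
    z ∈ ((Cfsg.generalizedFittingSubgroup ↥(Subgroup.centralizer ({z} : Set G))).map (Subgroup.centralizer ({z} : Set G)).subtype).map (MulAut.conj g).toMonoidHom ∧
      ∀ u ∈ Subgroup.closure ({z, g * z * g⁻¹} : Set G), ∀ v ∈ Subgroup.closure ({z, g * z * g⁻¹} : Set G),
        u ≠ 1 → v ≠ 1 → u ≠ v →
          ∃ x ∈ (Cfsg.generalizedFittingSubgroup ↥(Subgroup.centralizer ({z} : Set G))).map (Subgroup.centralizer ({z} : Set G)).subtype ⊔ ((Cfsg.generalizedFittingSubgroup ↥(Subgroup.centralizer ({z} : Set G))).map (Subgroup.centralizer ({z} : Set G)).subtype).map (MulAut.conj g).toMonoidHom, x * z * x⁻¹ = u ∧ x * (g * z * g⁻¹) * x⁻¹ = v := by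
  obtain ⟨h1, h2, h3, h5⟩ := h9_fstar_centralizer_facts z
  have hz' := h9_orderOf_eq_two_iff.1 hz
  have hzC : z ∈ Subgroup.centralizer ({z} : Set G) := Subgroup.mem_centralizer_singleton_iff.2 rfl
  obtain ⟨z', hz'', hz3⟩ := h1
  let z0 : generalizedFittingSubgroup ↥(Subgroup.centralizer ({z} : Set G)) := ⟨z', hz''⟩
  have hz0 : ((z0 : Subgroup.centralizer ({z} : Set G)) : G) = z := hz3
  have hz01 : z0 ≠ 1 := fun h => hz'.1 (by rw [← hz0, h]; rfl)
  have hz02 : z0 * z0 = 1 := Subtype.ext (Subtype.ext (by simpa [hz0] using hz'.2))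
  have hz0c : ∀ a, a * z0 = z0 * a := fun a => Subtype.ext (Subtype.ext (by
    simpa [hz0] using Subgroup.mem_centralizer_singleton_iff.1 a.1.2))
  have hX : XC ((generalizedFittingSubgroup ↥(Subgroup.centralizer ({z} : Set G))).map
      (Subgroup.centralizer ({z} : Set G)).subtype) z := by
    refine ⟨⟨z', hz'', hz3⟩, hz'.1, hz'.2, fun a ha => Subgroup.mem_centralizer_singleton_iff.1 (h2 ha), ?_⟩
    rintro _ ⟨a, ha, rfl⟩ _ ⟨b, hb, rfl⟩
    rcases h9_symplectic_exp_four hQ (fun q => Subtype.ext (Subtype.ext (h4 _ ⟨q.1, q.2, rfl⟩)))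
      hz01 hz02 hz0c ⟨a, ha⟩ ⟨b, hb⟩ with h | h
    · exact Or.inl (congrArg (fun x => (x.1.1 : G)) h)
    · right
      exact (congrArg (fun x => (x.1.1 : G)) h).trans (congrArg (fun t => (b : G) * a * t) hz0)
  refine aux hX (hQ.1.map _) (fun c hc => h3 (Subgroup.mem_centralizer_singleton_iff.2 hc))
    (fun x hx => h5 x (Subgroup.mem_centralizer_singleton_iff.2 hx)) ?_ g hne hin
  rintro _ ⟨x, hx, rfl⟩ hc hx2
  have hZc : IsCyclic (Subgroup.center (generalizedFittingSubgroup ↥(Subgroup.centralizer ({z} : Set G)))) :=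
    hQ.2 _ inferInstance inferInstance
  rcases h9_cyclic_unique_invol' hZc (x := ⟨x, hx⟩) (y := z0)
    (Subgroup.mem_center_iff.2 fun a => Subtype.ext (Subtype.ext (hc _ ⟨a.1, a.2, rfl⟩).symm))
    (Subgroup.mem_center_iff.2 hz0c) hz01 (Subtype.ext (Subtype.ext hx2)) hz02 with h | h
  · exact Or.inl (congrArg (fun x => (x.1.1 : G)) h)
  · right
    exact (congrArg (fun x => (x.1.1 : G)) h).trans hz0

end Cfsg.Agent.S1774
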