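import Cfsg.Statements.S0647
import Mathlib
import Cfsg.Agent.Lib.PGroup.Omega

set_option autoImplicit false
open Cfsg

namespace Cfsg.Agent.S0647

/-- For a nonempty family of maximal abelian subgroups of a finite group, the intersection of the family is the centre of the subgroup it generates, which is also the full centralizer of that subgroup. -/
theorem result {S : Type*} [Group S] [Finite S] (𝒜 : Set (Subgroup S)) (hne : 𝒜.Nonempty) (hab : ∀ A ∈ 𝒜, IsMulCommutative A) (hmax : ∀ A ∈ 𝒜, ∀ B : Subgroup S, IsMulCommutative B → A ≤ B → B = A) : sInf 𝒜 = sSup 𝒜 ⊓ Subgroup.centralizer ((sSup 𝒜 : Subgroup S) : Set S) ∧ sInf 𝒜 = Subgroup.centralizer ((sSup 𝒜 : Subgroup S) : Set S) := by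
  have h1 : Subgroup.centralizer ((sSup 𝒜 : Subgroup S) : Set S) ≤ sInf 𝒜 := by
    refine le_sInf fun A hA x hx => ?_
    have hxA : x ∈ Subgroup.centralizer (A : Set S) :=
      Subgroup.centralizer_le (le_sSup hA : A ≤ sSup 𝒜) hx
    have hc : IsMulCommutative ↥(Subgroup.zpowers x ⊔ A) := by
      refine Cfsg.Lib.pg_comm_of_zpowers_sup_central (N := A) (x := x) ?_ le_sup_right
        (Subgroup.mem_sup_left (Subgroup.mem_zpowers x)) le_rfl
      rw [Subgroup.le_centralizer_iff]
      have := hab A hA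
      exact sup_le (Subgroup.zpowers_le.mpr hxA) (Subgroup.le_centralizer A)
    rw [← hmax A hA _ hc le_sup_right]
    exact Subgroup.mem_sup_left (Subgroup.mem_zpowers x)
  have h2 : sInf 𝒜 ≤ Subgroup.centralizer ((sSup 𝒜 : Subgroup S) : Set S) := by
    rw [Subgroup.le_centralizer_iff]
    refine sSup_le fun A hA => ?_
    rw [Subgroup.le_centralizer_iff]
    have := hab A hA
    exact (sInf_le hA).trans (Subgroup.le_centralizer A)
  have h3 : sInf 𝒜 ≤ sSup 𝒜 := by
    obtain ⟨A, hA⟩ := hne
    exact (sInf_le hA).trans (le_sSup hA)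
  exact ⟨le_antisymm (le_inf h3 h2) (inf_le_right.trans h1), le_antisymm h2 h1⟩

end Cfsg.Agent.S0647
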