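import Cfsg.Statements.S0655
import Mathlib
import Cfsg.Agent.Lib.PGroup.Omega

set_option autoImplicit false
open Cfsg

namespace Cfsg.Agent.S0655

open Subgroup Cfsg.Lib

/-- In a p-group the intersection of all elementary abelian subgroups of largest order is the subgroup generated by the elements of order dividing p in the centre (equivalently the centralizer) of the elementary-version Thompson subgroup. -/
theorem result {S : Type*} [Group S] [Finite S] {p : ℕ} [Fact p.Prime] (hS : IsPGroup p S) : sInf (Cfsg.maxElementaryAbelianSubgroups p S) = Cfsg.omegaCenterThompson p S ∧ Cfsg.omegaCenterThompson p S = Cfsg.omegaOne p (Subgroup.centralizer (Cfsg.thompsonSubgroup p S : Set S)) := by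
  have hne : ∃ A, A ∈ Cfsg.maxElementaryAbelianSubgroups p S := by
    obtain ⟨A, hA, hmax⟩ := Set.exists_max_image {A : Subgroup S | Cfsg.IsElementaryAbelian p A}
      (fun A => Nat.card A) (Set.toFinite _) ⟨⊥, inferInstance, fun a ha => by
        rw [mem_bot.mp ha, one_pow]⟩
    exact ⟨A, hA, hmax⟩
  set J := Cfsg.thompsonSubgroup p S with hJ
  have h1 : Cfsg.omegaOne p (centralizer (J : Set S)) ≤
      sInf (Cfsg.maxElementaryAbelianSubgroups p S) := by
    refine le_sInf fun A hA => pg_omegaOne_le_iff.mpr fun x hx hxp => ?_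
    have hxA : x ∈ centralizer (A : Set S) := centralizer_le (le_sSup hA : A ≤ J) hx
    have hc : IsMulCommutative ↥(zpowers x ⊔ A) := by
      refine pg_comm_of_zpowers_sup_central (N := A) (x := x) ?_ le_sup_right
        (mem_sup_left (mem_zpowers x)) le_rfl
      rw [le_centralizer_iff]
      have := hA.1.1
      exact sup_le (zpowers_le.mpr hxA) (le_centralizer A)
    have he : Cfsg.IsElementaryAbelian p (zpowers x ⊔ A) := ⟨hc, fun y hy => by
      refine pg_pow_eq_one_of_mem_omegaOne_of_comm hc ?_
      exact (sup_le (zpowers_le.mpr (pg_mem_omegaOne (mem_sup_left (mem_zpowers x)) hxp))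
        (fun a ha => pg_mem_omegaOne (mem_sup_right ha) (hA.1.2 a ha)) :
          zpowers x ⊔ A ≤ Cfsg.omegaOne p (zpowers x ⊔ A)) hy⟩
    rw [eq_of_le_of_card_ge le_sup_right (hA.2 _ he)]
    exact mem_sup_left (mem_zpowers x)
  have h2 : sInf (Cfsg.maxElementaryAbelianSubgroups p S) ≤ Cfsg.omegaCenterThompson p S := by
    obtain ⟨A, hA⟩ := hne
    intro x hx
    refine pg_mem_omegaOne ⟨(le_sSup hA : A ≤ J) (sInf_le hA hx), ?_⟩ (hA.1.2 x (sInf_le hA hx))
    have : sInf (Cfsg.maxElementaryAbelianSubgroups p S) ≤ centralizer (J : Set S) := by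
      rw [le_centralizer_iff]
      refine sSup_le fun B hB => ?_
      rw [le_centralizer_iff]
      have := hB.1.1
      exact (sInf_le hB).trans (le_centralizer B)
    exact this hx
  have h3 : Cfsg.omegaCenterThompson p S ≤ Cfsg.omegaOne p (centralizer (J : Set S)) :=
    pg_omegaOne_mono inf_le_right
  exact ⟨le_antisymm h2 (h3.trans h1), le_antisymm h3 (h1.trans h2)⟩

end Cfsg.Agent.S0655
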