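import Cfsg.Statements.S0994
import Mathlib
import Cfsg.Agent.Lib.Small.Basic

set_option autoImplicit false
open Cfsg

namespace Cfsg.Agent.S0994

open Cfsg.Lib Subgroup


/-- No finite simple group has order 1188 = 2^2 * 3^3 * 11. -/
theorem result {G : Type*} [Group G] [Finite G] [IsSimpleGroup G] : Nat.card G ≠ 1188 := by
  intro h
  have hG : ¬ IsMulCommutative G := sm_not_comm_of_not_prime (by rw [h]; norm_num)
  have : Fact (Nat.Prime 11) := ⟨by norm_num⟩
  obtain ⟨P⟩ : Nonempty (Sylow 11 G) := inferInstance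
  obtain ⟨e, v, h1, h2, h3, h4, h5, -⟩ := sm_prime_sylow_data (p := 11) hG (by rw [h]; norm_num)
    (by rw [h]; norm_num) P
  generalize Nat.card (Sylow 11 G) = n at *
  rw [h] at h1
  have h6 : n * (e * v) = 108 := by nlinarith
  have h7 : n ∣ 108 := Dvd.intro _ h6
  have h8 := Nat.le_of_dvd (by norm_num) h7
  have h9 := Nat.le_of_dvd (by norm_num) h2
  have hn : n = 12 := by interval_cases n <;> simp_all
  subst hn
  have : e ∣ 9 := Dvd.intro v (by omega)
  interval_cases e <;> simp_all

end Cfsg.Agent.S0994
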