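import Cfsg.Statements.S1290
import Mathlib
import Cfsg.Agent.Lib.TCK.Main

set_option autoImplicit false
open Cfsg

namespace Cfsg.Agent.S1290
open Cfsg.Lib

open Subgroup Cfsg.Lib.FT Cfsg.Lib.Bender Cfsg.Lib.TGC Cfsg.Lib.TCK

/-- Let G be a non-abelian finite simple group, S a Sylow 2-subgroup, and W the subgroup generated by the cores O(C_G(x)) of the involutions x of S. If W has odd order and W ∩ C_G(x) = O(C_G(x)) for each involution x ∈ S, then O(C_G(t)) = 1 for every involution t of G. -/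
theorem result {G : Type*} [Group G] [Finite G] [IsSimpleGroup G] (hna : ¬ IsMulCommutative G) (S : Sylow 2 G) (hodd : Odd (Nat.card ↥(⨆ x : {x : G // x ∈ S ∧ orderOf x = 2}, Cfsg.centralizerPPrimeCore 2 (x : G)))) (hfix : ∀ x : G, x ∈ S → orderOf x = 2 → (⨆ y : {y : G // y ∈ S ∧ orderOf y = 2}, Cfsg.centralizerPPrimeCore 2 (y : G)) ⊓ Subgroup.centralizer {x} = Cfsg.centralizerPPrimeCore 2 x) (t : G) (ht : orderOf t = 2) : Cfsg.centralizerPPrimeCore 2 t = ⊥ := by
  have h : Hyp (S : Subgroup G) _ := ⟨.of_sylow_top S, hodd, fun g hg => conj_eq_iff_mem_normalizer.1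
      (eq_of_le_of_card_ge (by
        rw [Subgroup.map_iSup]
        exact iSup_le fun x => th_conj g x.1 ▸ le_iSup (fun x : {x : G // x ∈ S ∧ orderOf x = 2} => th x.1)
          ⟨g * x * g⁻¹, mul_mem (mul_mem hg x.2.1) (inv_mem hg), ((MulAut.conj g).orderOf_eq _).trans x.2.2⟩)
        (card_conj g _).ge),
    fun a ha ia => hfix a ha ia.orderOf_eq⟩
  have it := isInv_iff_orderOf.2 ht
  obtain ⟨k, -, hk⟩ := conj_into h.syl it (mem_top t)
  have := h.fix _ hk (it.conj k)
  rw [h.eq_bot hna it, bot_inf_eq, th_conj] at this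
  exact (map_eq_bot_iff_of_injective _ (MulAut.conj k).injective).1 this.symm

end Cfsg.Agent.S1290
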