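import Cfsg.Statements.S1293
import Mathlib
import Cfsg.Agent.Lib.Core.PCompOf

set_option autoImplicit false
open Cfsg

namespace Cfsg.Agent.S1293
open Cfsg.Lib

/-- Let G be finite with L_{p'}(G) = 1, and H = N_G(P) for a nontrivial p-subgroup P. Then L_{p'}(H) = 1 and O_{p'}(H) ≤ O_{p'}(G). -/
theorem result {G : Type*} [Group G] [Finite G] (p : ℕ) [Fact p.Prime] (hL : Cfsg.pLayer p G = ⊥) (P : Subgroup G) (hP : IsPGroup p ↥P) (hP1 : P ≠ ⊥) : Cfsg.pLayer p ↥(Subgroup.normalizer (P : Set G)) = ⊥ ∧ (Cfsg.pPrimeCore p ↥(Subgroup.normalizer (P : Set G))).map (Subgroup.normalizer (P : Set G)).subtype ≤ Cfsg.pPrimeCore p G := by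
  set f := QuotientGroup.mk' (pPrimeCore p G) with hf
  have hs : Function.Surjective f := QuotientGroup.mk'_surjective _
  have hk : (Nat.card f.ker).Coprime p := by
    rw [QuotientGroup.ker_mk']; exact coprime_card_pPrimeCore
  have h1 : generalizedFittingSubgroup (G ⧸ pPrimeCore p G) = pCore p _ :=
    (fstar_eq_pCore_iff p).mpr ⟨pLayer_eq_bot_iff_layer.mp hL, pPrimeCore_quotient_pPrimeCore⟩
  have h2 := fstar_eq_pCore_of_local h1 (hP.map f) (Subgroup.centralizer_le_normalizer _) le_rfl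
    (Or.inl Subgroup.le_normalizer)
  rw [fstar_eq_pCore_iff_pLayer, ← map_subtype_eq_bot_iff,
    ← map_subtype_eq_bot_iff (K := pPrimeCore p _), normalizer_map_of_ker_coprime f hs hk hP,
    ← map_pLayerOf_of_ker_coprime f _ (coprime_card_of_le inf_le_right hk),
    ← map_pPrimeCoreOf_of_ker_coprime f _ (coprime_card_of_le inf_le_right hk),
    Subgroup.map_eq_bot_iff, Subgroup.map_eq_bot_iff, QuotientGroup.ker_mk'] at h2
  refine ⟨?_, h2.2⟩
  rw [← map_subtype_eq_bot_iff, ← pGen_pLayerOf]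
  exact pGen_eq_bot_of_coprime (coprime_card_of_le h2.1 coprime_card_pPrimeCore)

end Cfsg.Agent.S1293
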