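import Cfsg.Statements.S1295
import Cfsg.Agent.Lib.SF2.Final
import Cfsg.Agent.Lib.Core.PCompOf

set_option autoImplicit false
open Cfsg

namespace Cfsg.Agent.S1295
open Cfsg.Lib Cfsg.Lib.FT

/-- Let G be finite with O_{p'}(G) = 1 and p-rank at least 3, whose reduced rank-2 commuting graph for p is connected. Suppose that for every element a of order p with m_p(C_G(a)) ≥ 3 the p-layer of C_G(a) is trivial and O_{p'}(C_G(a)) is solvable. Then F*(C_G(a)) = O_p(C_G(a)) for every such a. -/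
theorem result {G : Type*} [Group G] [Finite G] (p : ℕ) [Fact p.Prime] (hO : Cfsg.pPrimeCore p G = ⊥) (hrk : ¬ Cfsg.PRankLE p 2 G) (hconn : Cfsg.IsRankGraphConnected p 2 G) (hL : ∀ a : G, (orderOf a = p ∧ ¬ Cfsg.PRankLE p 2 ↥(Subgroup.centralizer ({a} : Set G))) → Cfsg.pLayer p ↥(Subgroup.centralizer ({a} : Set G)) = ⊥ ∧ Group.IsSolvable ↥(Cfsg.centralizerPPrimeCore p a)) (a : G) (ha : (orderOf a = p ∧ ¬ Cfsg.PRankLE p 2 ↥(Subgroup.centralizer ({a} : Set G)))) : Cfsg.generalizedFittingSubgroup ↥(Subgroup.centralizer ({a} : Set G)) = Cfsg.pCore p ↥(Subgroup.centralizer ({a} : Set G)) := by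
  have key := Cfsg.Lib.FT.equivariant_trivial hO hconn (centralizerPPrimeCore p)
    (fun b hb => ⟨cpc_le b, cpc_not_dvd b, (hL b hb).2⟩)
    (fun b g _ => centralizerPPrimeCore_conj' g b)
    (fun b c hb hc hbc => cpc_inf_le_of_constrained
      (isPConstrained_iff_pLayer_eq_bot.2 (hL c hc).1)
      (elemAb_isPGroup (elemAb_zpowers (hb.1 ▸ pow_orderOf_eq_one b)))
      (Subgroup.mem_centralizer_singleton_iff.2 hbc)) ha
  exact fstar_eq_pCore_iff_pLayer.2 ⟨(hL a ha).1, map_subtype_eq_bot_iff.1 key⟩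

end Cfsg.Agent.S1295
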