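import Cfsg.Statements.S1323
import Mathlib
import Cfsg.Agent.Lib.Core.Balance

set_option autoImplicit false
open Cfsg

namespace Cfsg.Agent.S1323
open Cfsg.Lib

open Subgroup Equiv Equiv.Perm

section
variable {α : Type*} [Fintype α] [DecidableEq α]

/-- The even permutations fixing `Ω` pointwise. -/
def fixer (Ω : Finset α) : Subgroup (alternatingGroup α) := (alternatingGroup.ofSubtype Ωᶜ).range

theorem mem_fixer {Ω : Finset α} {k : alternatingGroup α} :
    k ∈ fixer Ω ↔ ∀ a ∈ Ω, (k : Perm α) a = a := by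
  rw [fixer, alternatingGroup.mem_range_ofSubtype_iff]
  constructor
  · intro h a ha
    by_contra hne
    have := h (Finset.mem_coe.mpr (mem_support.mpr hne))
    simp [ha] at this
  · intro h a ha
    simp only [mem_support] at ha
    simpa using fun h' => ha (h a h')

theorem exists_three {Ω : Finset α} (h : 4 ≤ Ωᶜ.card) {a : α} (ha : a ∉ Ω) (b : α) (hab : b ≠ a) :
    ∃ σ ∈ fixer Ω, (σ : Perm α) a ≠ a ∧ (σ : Perm α) b = b := by
  have h1 : 1 < ((Ωᶜ.erase a).erase b).card := by
    have := Finset.pred_card_le_card_erase (s := Ωᶜ) (a := a)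
    have := Finset.pred_card_le_card_erase (s := Ωᶜ.erase a) (a := b)
    omega
  obtain ⟨u, hu, v, hv, huv⟩ := Finset.one_lt_card.mp h1
  simp only [Finset.mem_erase, Finset.mem_compl] at hu hv
  refine ⟨⟨swap a u * swap a v, by
    rw [mem_alternatingGroup, map_mul, sign_swap hu.2.1.symm, sign_swap hv.2.1.symm]; simp⟩,
    mem_fixer.mpr fun c hc => ?_, ?_, ?_⟩
  · have h1 : c ≠ a := fun e => ha (e ▸ hc)
    have h2 : c ≠ u := fun e => hu.2.2 (e ▸ hc)
    have h3 : c ≠ v := fun e => hv.2.2 (e ▸ hc)
    simp [swap_apply_of_ne_of_ne h1 h2, swap_apply_of_ne_of_ne h1 h3]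
  · simp [swap_apply_of_ne_of_ne hv.2.1 huv.symm, hv.2.1]
  · simp [swap_apply_of_ne_of_ne hab hu.1.symm, swap_apply_of_ne_of_ne hab hv.1.symm]

theorem fix_of_mem_centralizer {Ω : Finset α} (h : 4 ≤ Ωᶜ.card) {c : alternatingGroup α}
    (hc : c ∈ centralizer (fixer Ω : Set (alternatingGroup α))) {a : α} (ha : a ∉ Ω) :
    (c : Perm α) a = a := by
  by_contra hne
  obtain ⟨σ, hσ, h1, h2⟩ := exists_three h ha _ hne
  have := congrArg (fun g : alternatingGroup α => (g : Perm α) a) (hc σ hσ)
  simp only [Subgroup.coe_mul, Perm.mul_apply, h2] at this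
  exact h1 ((c : Perm α).injective this).symm

theorem mem_normalizer_fixer {Ω : Finset α} {g : alternatingGroup α}
    (hg : ∀ a ∈ Ω, (g⁻¹ : Perm α) a ∈ Ω) : g ∈ normalizer (fixer Ω : Set (alternatingGroup α)) := by
  refine pg_mem_normalizer_of_conj_mem fun k hk => mem_fixer.mpr fun a ha => ?_
  simp only [Subgroup.coe_mul, Subgroup.coe_inv, Perm.mul_apply]
  rw [mem_fixer.mp hk _ (hg a ha)]
  simp

theorem moves_of_involution {Ω : Finset α} (h : 4 ≤ Ωᶜ.card) (h4 : Ω.card = 4)
    {y : alternatingGroup α} (hy : orderOf y = 2)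
    (hc : y ∈ centralizer (fixer Ω : Set (alternatingGroup α))) {a : α} (ha : a ∈ Ω) :
    (y : Perm α) a ≠ a := by
  have h1 : (y : Perm α).support ⊆ Ω := fun b hb => by
    by_contra hn
    exact mem_support.mp hb (fix_of_mem_centralizer h hc hn)
  have ho : orderOf (y : Perm α) = 2 := by rw [orderOf_coe, hy]
  have h2 : 4 ≤ (y : Perm α).support.card := by
    by_contra hlt
    have h0 : (y : Perm α).support.card ≠ 0 := by
      rw [Ne, card_support_eq_zero]
      intro e
      rw [e, orderOf_one] at ho
      omega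
    have h1 := card_support_ne_one (y : Perm α)
    have h2 : (y : Perm α).support.card ≠ 2 := by
      rw [Ne, card_support_eq_two]
      intro e
      have := e.sign_eq
      rw [mem_alternatingGroup.mp y.2] at this
      exact absurd this (by decide)
    have h3 : (y : Perm α).support.card ≠ 3 := by
      rw [Ne, card_support_eq_three_iff]
      intro e
      have := e.orderOf
      omega
    omega
  rw [← mem_support, Finset.eq_of_subset_of_card_le h1 (h4 ▸ h2)]
  exact ha

theorem key {Ω : Finset α} (h : 4 ≤ Ωᶜ.card) (h4 : Ω.card = 4)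
    {y g : alternatingGroup α} (hy : orderOf y = 2)
    (hc : y ∈ centralizer (fixer Ω : Set (alternatingGroup α)))
    (hc' : g⁻¹ * y * g ∈ centralizer (fixer Ω : Set (alternatingGroup α))) :
    g ∈ normalizer (fixer Ω : Set (alternatingGroup α)) := by
  refine mem_normalizer_fixer fun a ha => ?_
  by_contra hn
  have := fix_of_mem_centralizer h hc' hn
  simp only [Subgroup.coe_mul, Subgroup.coe_inv, Perm.mul_apply, Perm.coe_inv,
    Equiv.apply_symm_apply] at this
  exact moves_of_involution h h4 hy hc ha ((g : Perm α).symm.injective this)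

theorem standard {Ω : Finset α} (h : 5 ≤ Ωᶜ.card) (h4 : Ω.card = 4) :
    IsStandardSubgroup (fixer Ω) := by
  have h' : 4 ≤ Ωᶜ.card := by omega
  have hq : IsQuasisimple (fixer Ω) := by
    have hc : 5 ≤ Nat.card (Ωᶜ : Finset α) := by
      rw [Nat.card_eq_fintype_card, Fintype.card_coe]; exact h
    have := alternatingGroup.isSimpleGroup hc
    refine (isQuasisimple_of_isSimpleGroup ?_).of_equiv
      (MonoidHom.ofInjective alternatingGroup.ofSubtype_injective)
    rw [alternatingGroup.isMulCommutative_iff_card_le_three]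
    omega
  obtain ⟨a, b, c, d, hab, hac, had, hbc, hbd, hcd, rfl⟩ := Finset.card_eq_four.mp h4
  let z : alternatingGroup α := ⟨swap a b * swap c d, by
    rw [mem_alternatingGroup, map_mul, sign_swap hab, sign_swap hcd]; simp⟩
  have hz : orderOf z = 2 := by
    refine orderOf_eq_prime (Subtype.ext ?_) fun e => ?_
    · have : Commute (swap a b) (swap c d) :=
        (disjoint_swap_swap (by simp [hab, hac, had, hbc, hbd, hcd])).commute
      simp only [z, SubmonoidClass.mk_pow, OneMemClass.coe_one]
      rw [this.mul_pow, pow_two, pow_two, swap_mul_self, swap_mul_self, one_mul]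
    · have := congrArg (fun g : alternatingGroup α => (g : Perm α) a) e
      simp [z, swap_apply_of_ne_of_ne hac had, hab.symm] at this
  have hzc : z ∈ centralizer (fixer {a, b, c, d} : Set (alternatingGroup α)) := by
    intro k hk
    have hk' := mem_fixer.mp hk
    apply Subtype.ext
    have e1 : (k : Perm α) * swap a b = swap a b * k := by
      rw [mul_swap_eq_swap_mul, hk' a (by simp), hk' b (by simp)]
    have e2 : (k : Perm α) * swap c d = swap c d * k := by
      rw [mul_swap_eq_swap_mul, hk' c (by simp), hk' d (by simp)]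
    simp only [z, Subgroup.coe_mul]
    rw [← mul_assoc, e1, mul_assoc, e2, mul_assoc]
  have hN : normalizer (fixer {a, b, c, d} : Set (alternatingGroup α)) =
      normalizer (centralizer (fixer {a, b, c, d} : Set (alternatingGroup α)) :
        Set (alternatingGroup α)) :=
    le_antisymm (normalizer_le_normalizer_centralizer _) fun g hg =>
      key h' h4 hz hzc (conj_mem_of_mem_normalizer' hg hzc)
  refine ⟨hq, ⟨?_, fun g hg => ?_⟩, fun g _ hc => ?_, hN⟩
  · rw [even_iff_two_dvd, ← hz]
    exact Subgroup.orderOf_dvd_natCard _ hzc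
  · rw [← Nat.not_even_iff_odd, even_iff_two_dvd]
    intro hd
    obtain ⟨y, hy⟩ := exists_prime_orderOf_dvd_card' 2 hd
    exact hg (hN ▸ key h' h4 (by rw [← hy, orderOf_coe]) y.2.1 (mem_map_conj.mp y.2.2))
  · have h1 : ∀ x ∈ ({a, b, c, d} : Finset α)ᶜ, (g : Perm α) x ∈ ({a, b, c, d} : Finset α) := by
      intro x hx
      by_contra hn
      have hxa : a ≠ x := fun e => Finset.mem_compl.mp hx (by simp [e])
      obtain ⟨σ, hσ, h2, -⟩ := exists_three h' (Finset.mem_compl.mp hx) a hxa
      have := fix_of_mem_centralizer h' (le_centralizer_of_commutator_eq_bot' hc ⟨σ, hσ, rfl⟩) hn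
      simp only [MulEquiv.toMonoidHom_eq_coe, MonoidHom.coe_coe, MulAut.conj_apply, Subgroup.coe_mul,
        Subgroup.coe_inv, Perm.mul_apply, Perm.coe_inv, Equiv.symm_apply_apply] at this
      exact h2 ((g : Perm α).injective this)
    have := Finset.card_le_card_of_injOn (g : Perm α) h1 (g : Perm α).injective.injOn
    omega

end


/-- For n ≥ 9, the subgroup of the alternating group on Fin n fixing each of the points 0, 1, 2, 3 is a standard subgroup. -/
theorem result (n : ℕ) (h4 : 4 ≤ n) (hn : 9 ≤ n) : Cfsg.IsStandardSubgroup (⨅ i : Fin 4, MulAction.stabilizer ↥(alternatingGroup (Fin n)) (Fin.castLE h4 i : Fin n)) := by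
  let Ω : Finset (Fin n) := Finset.univ.map (Fin.castLEEmb h4)
  have hΩ : Ω.card = 4 := by simp [Ω]
  have : (⨅ i : Fin 4, MulAction.stabilizer ↥(alternatingGroup (Fin n)) (Fin.castLE h4 i : Fin n)) =
      fixer Ω := by
    ext k
    rw [mem_fixer, mem_iInf]
    simp only [Ω, Finset.mem_map, Finset.mem_univ, true_and, forall_exists_index,
      forall_apply_eq_imp_iff]
    rfl
  rw [this]
  refine standard ?_ hΩ
  rw [Finset.card_compl, hΩ, Fintype.card_fin]
  omega

end Cfsg.Agent.S1323
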