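import Cfsg.Statements.S1339
import Mathlib
import Cfsg.Agent.Lib.Core.Balance

set_option autoImplicit false
open Cfsg

namespace Cfsg.Agent.S1339
open Cfsg.Lib

open Subgroup Matrix Matrix.SpecialLinearGroup

/-- Let F be a field with 2 elements, n ≥ 3, and t ∈ SL(n, F) a transvection (t = 1 + E_{ij}, i ≠ j). Then the generalized Fitting subgroup of C(t) is O_2(C(t)). -/
theorem result {F : Type*} [Field F] [Fintype F] [DecidableEq F] (hF : Fintype.card F = 2) (n : ℕ) (hn : 3 ≤ n) (i j : Fin n) (hij : i ≠ j) (t : Matrix.SpecialLinearGroup (Fin n) F) (ht : (t : Matrix (Fin n) (Fin n) F) = Matrix.transvection i j 1) : Cfsg.generalizedFittingSubgroup ↥(Subgroup.centralizer ({t} : Set (Matrix.SpecialLinearGroup (Fin n) F))) = Cfsg.pCore 2 ↥(Subgroup.centralizer ({t} : Set (Matrix.SpecialLinearGroup (Fin n) F))) := by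
  have h2 : (2 : F) = 0 := by
    have := FiniteField.cast_card_eq_zero F
    rw [hF] at this
    exact_mod_cast this
  have h1 : ∀ x : F, x ≠ 0 → x = 1 := fun x hx => by
    have := FiniteField.pow_card_sub_one_eq_one x hx
    rwa [hF, pow_one] at this
  have ht' : t = transvection hij 1 := Subtype.ext ht
  subst ht'
  set e : Fin n → F := Pi.single i 1 with he
  have he0 : e ≠ 0 := Pi.single_ne_zero_iff.2 one_ne_zero
  set Q : Subgroup (Matrix.SpecialLinearGroup (Fin n) F) := lineStab (Submodule.span F {e}) with hQ
  set C := centralizer ({transvection hij (1 : F)} : Set (Matrix.SpecialLinearGroup (Fin n) F))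
    with hC
  have hQC : Q ≤ C := fun A hA => mem_centralizer_singleton_iff.mpr
    (lineStab_isMulCommutative_of_span' e he0 _ _ hA (SL2Gen.transvection_mem_lineStab hij 1))
  have hQp : IsPGroup 2 Q := by
    intro A
    refine ⟨1, Subtype.ext (Subtype.ext (ext_iff_smul.2 fun w => ?_))⟩
    obtain ⟨a, ha⟩ := Submodule.mem_span_singleton.mp (A.2 w)
    have h3 : A.1 • w = w + a • e := by rw [ha]; abel
    change (A.1 ^ 2 ^ 1) • w = (1 : Matrix.SpecialLinearGroup (Fin n) F) • w
    rw [pow_one, pow_two, mul_smul, h3, smul_add, smul_comm, lineStab_fix_of_span e he0 _ A.2, h3,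
      one_smul, add_assoc, ← add_smul, ← two_mul, h2, zero_mul, zero_smul, add_zero]
  have hcomm : ∀ (g : Matrix.SpecialLinearGroup (Fin n) F) {k : Fin n} (hk : i ≠ k),
      g * transvection hk (1 : F) = transvection hk 1 * g →
      g.1 * single i k (1 : F) = single i k 1 * g.1 := by
    intro g k hk h
    have := congrArg Subtype.val h
    simp only [Matrix.SpecialLinearGroup.coe_mul, transvection_coe] at this
    rwa [add_mul, mul_add, one_mul, mul_one, add_right_inj] at this
  have hn : C ≤ normalizer (Q : Set (Matrix.SpecialLinearGroup (Fin n) F)) := by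
    intro g hg
    have h3 := hcomm g hij (mem_centralizer_singleton_iff.mp hg)
    have h4 : g • e = g.1 j j • e := by
      ext a
      have := congrFun (congrFun h3 a) j
      rw [mul_single_apply_same, mul_one] at this
      by_cases ha : a = i
      · subst ha
        rw [single_mul_apply_same, one_mul] at this
        simp [he, Matrix.SpecialLinearGroup.smul_def, this]
      · rw [single_mul_apply_of_ne _ _ _ _ _ ha] at this
        simp [he, Matrix.SpecialLinearGroup.smul_def, this, ha]
    refine pg_mem_normalizer_of_conj_mem fun A hA w => ?_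
    obtain ⟨a, ha⟩ := Submodule.mem_span_singleton.mp (hA (g⁻¹ • w))
    have : (g * A * g⁻¹) • w - w = g • (A • g⁻¹ • w - g⁻¹ • w) := by
      rw [smul_sub, smul_inv_smul, mul_smul, mul_smul]
    rw [this, ← ha, smul_comm, h4]
    exact Submodule.smul_mem _ _ (Submodule.smul_mem _ _ (Submodule.mem_span_singleton_self e))
  have hself : centralizer (Q : Set (Matrix.SpecialLinearGroup (Fin n) F)) ≤ Q := by
    intro g hg w
    have key : ∀ k, i ≠ k → ∀ b, g.1 k b = if k = b then 1 else 0 := by
      intro k hk
      have h3 := hcomm g hk (hg _ (SL2Gen.transvection_mem_lineStab hk 1)).symm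
      have h4 : ∀ b, k ≠ b → g.1 k b = 0 := fun b hb => by
        have := congrFun (congrFun h3 i) b
        rw [single_mul_apply_same, one_mul, mul_single_apply_of_ne _ _ _ _ _ hb.symm] at this
        exact this.symm
      intro b
      split_ifs with h
      · subst h
        refine h1 _ fun h0 => ?_
        have := det_eq_zero_of_row_eq_zero (A := g.1) k fun b => by
          by_cases h : k = b
          · exact h ▸ h0
          · exact h4 b h
        rw [g.2] at this
        exact one_ne_zero this
      · exact h4 b h
    refine Submodule.mem_span_singleton.mpr ⟨(g • w - w) i, ?_⟩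
    ext a
    by_cases ha : a = i
    · subst ha; simp [he]
    · simp [he, ha, Matrix.SpecialLinearGroup.smul_def, mulVec, dotProduct, key a (Ne.symm ha)]
  have hle : Q.subgroupOf C ≤ pCore 2 C :=
    le_pCore (normal_subgroupOf_of_le_normalizer hn) hQp.comap_subtype
  rw [fstar_eq_pCore_iff_centralizer_le]
  refine (centralizer_antitone hle).trans (le_trans ?_ hle)
  rw [centralizer_subgroupOf hQC]
  exact comap_mono hself

end Cfsg.Agent.S1339
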