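import Cfsg.Statements.S1340
import Mathlib
import Cfsg.Agent.Lib.Core.Balance
import Cfsg.Agent.Lib.Core.SLn

set_option autoImplicit false
open Cfsg

namespace Cfsg.Agent.S1340
open Cfsg.Lib

open Subgroup Matrix

theorem neg_one_ne_one {F : Type*} [Field F] [Fintype F] (hF : Odd (Fintype.card F)) :
    (-1 : F) ≠ 1 := by
  intro h
  have h2 : (2 : F) = 0 := by linear_combination -h
  have := FiniteField.even_card_iff_char_two.mp (CharP.ringChar_of_prime_eq_zero Nat.prime_two
    (by exact_mod_cast h2))
  rw [Nat.odd_iff] at hF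
  omega


/-- Let F be a finite field of odd order and n ≥ 3 with (n, |F|) ≠ (3, 3). Then GL(n, F) has a non-central involution t such that C(t) / O(C(t)) has a component. -/
theorem result {F : Type*} [Field F] [Fintype F] [DecidableEq F] (hF : Odd (Fintype.card F)) (n : ℕ) (hn : 3 ≤ n) (h33 : ¬ (n = 3 ∧ Fintype.card F = 3)) : ∃ t : Matrix.GeneralLinearGroup (Fin n) F, orderOf t = 2 ∧ t ∉ Subgroup.center (Matrix.GeneralLinearGroup (Fin n) F) ∧ Cfsg.HasComponent (↥(Subgroup.centralizer ({t} : Set (Matrix.GeneralLinearGroup (Fin n) F))) ⧸ Cfsg.oddCore ↥(Subgroup.centralizer ({t} : Set (Matrix.GeneralLinearGroup (Fin n) F)))) := by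
  have hne := neg_one_ne_one hF
  obtain ⟨m, rfl⟩ : ∃ m, n = m + 3 := ⟨n - 3, by omega⟩
  set d : Fin (m + 3) → F := fun i => if i = 0 then -1 else 1 with hd
  have hdd : diagonal d * diagonal d = 1 := by
    rw [diagonal_mul_diagonal, ← diagonal_one]
    congr 1
    ext i
    by_cases h : i = 0 <;> simp [hd, h]
  let t : GeneralLinearGroup (Fin (m + 3)) F := ⟨diagonal d, diagonal d, hdd, hdd⟩
  have h10 : (1 : Fin (m + 3)) ≠ 0 := by simp
  have h20 : (2 : Fin (m + 3)) ≠ 0 := by
    rw [Ne, Fin.ext_iff]; simp [Nat.mod_eq_of_lt (show 2 < m + 3 by omega)]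
  have h12 : (1 : Fin (m + 3)) ≠ 2 := by
    rw [Ne, Fin.ext_iff]; simp [Nat.mod_eq_of_lt (show 2 < m + 3 by omega)]
  refine ⟨t, orderOf_eq_prime (Units.ext (by rw [pow_two]; exact hdd)) fun e => ?_, fun h => ?_, ?_⟩
  · have := congrArg (fun g : GeneralLinearGroup (Fin (m + 3)) F => g.1 0 0) e
    simp [t, hd] at this
    exact hne this
  · have := congrArg (fun g : GeneralLinearGroup (Fin (m + 3)) F => g.1 1 0) (mem_center_iff.mp h
      (SpecialLinearGroup.toGL (SpecialLinearGroup.transvection h10 (1 : F))))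
    simp [t, hd, SpecialLinearGroup.transvection_coe] at this
    exact hne this
  set L := (slBlkHom (F := F) (0 : Fin (m + 3))).range.map SpecialLinearGroup.toGL with hL
  have hq : IsQuasisimple L := by
    rw [hL, isQuasisimple_map_iff_of_injective _ SpecialLinearGroup.toGL_injective]
    apply isQuasisimple_range_slBlkHom
    rw [Fintype.card_fin, Nat.card_eq_fintype_card]
    have : 1 < Fintype.card F := Fintype.one_lt_card
    obtain ⟨r, hr⟩ := hF
    omega
  have hLt : L ≤ centralizer ({t} : Set _) := by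
    rintro _ ⟨h, hh, rfl⟩
    rw [SetLike.mem_coe, mem_range_slBlkHom] at hh
    rw [mem_centralizer_singleton_iff]
    apply Units.ext
    have e : diagonal d = 1 - (single 0 0 (1 : F) + single 0 0 1) := by
      ext i j
      by_cases h1 : i = j
      · subst h1
        by_cases h2 : i = 0
        · simp [hd, h2]
        · simp [hd, h2, single_apply, Ne.symm h2]
      · simp only [diagonal_apply_ne _ h1, Matrix.sub_apply, Matrix.add_apply, single_apply,
          one_apply_ne h1]
        rw [if_neg (fun h => h1 (h.1.symm.trans h.2))]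
        simp
    change h.1 * diagonal d = diagonal d * h.1
    rw [e, mul_sub, sub_mul, mul_add, add_mul, hh.1, hh.2, mul_one, one_mul]
  have hn : centralizer ({t} : Set _) ≤ normalizer (L : Set (GeneralLinearGroup (Fin (m + 3)) F)) := by
    intro g hg
    refine pg_mem_normalizer_of_conj_mem ?_
    rintro _ ⟨h, hh, rfl⟩
    have h0 : g * t = t * g := mem_centralizer_singleton_iff.mp hg
    have h1 : g.1 * diagonal d = diagonal d * g.1 := congrArg Units.val h0
    refine ⟨⟨g.1 * h.1 * (g⁻¹).1, ?_⟩, conj_mem_range_slBlkHom (g := g.1) (g' := (g⁻¹).1)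
      g.mul_inv (commute_single_of_commute_diagonal (fun k hk => by simp [hd, hk, hne.symm]) h1)
      hh rfl, Units.ext rfl⟩
    rw [det_mul, det_mul, h.2, mul_one, ← det_mul, g.mul_inv, det_one]
  have hc := isComponent_subgroupOf_of_le_normalizer hLt hn hq
  refine ⟨_, hc.map_of_ne_bot (QuotientGroup.mk'_surjective (oddCore _)) ?_⟩
  rw [Ne, Subgroup.map_eq_bot_iff, QuotientGroup.ker_mk']
  intro hle
  have h1 := coprime_card_of_le hle coprime_card_pPrimeCore
  rw [card_subgroupOf_of_le hLt] at h1
  have hm : (-1 : F) ≠ 0 := by simp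
  have h2 : SpecialLinearGroup.toGL (SpecialLinearGroup.diag2n h12 (-1 : F) hm) ∈ L := by
    refine ⟨_, mem_range_slBlkHom.mpr ?_, rfl⟩
    rw [SpecialLinearGroup.diag2n_coe]
    constructor
    · ext i j
      by_cases h : i = 0 <;> simp [h, single_apply, h10.symm, h20.symm, Ne.symm, eq_comm]
    · ext i j
      by_cases h : j = 0 <;> simp [h, single_apply, h10.symm, h20.symm, Ne.symm, eq_comm]
  have h3 := coprime_orderOf_of_mem h1 h2
  rw [orderOf_eq_prime (p := 2) ?_ ?_] at h3
  · simp at h3
  · apply Units.ext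
    change (SpecialLinearGroup.diag2n h12 (-1 : F) hm).1 ^ 2 = 1
    rw [SpecialLinearGroup.diag2n_coe, diagonal_pow, ← diagonal_one]
    congr 1
    ext i
    simp only [Pi.pow_apply]
    split_ifs <;> simp
  · intro e
    have := congrArg (fun g : GeneralLinearGroup (Fin (m + 3)) F => g.1 1 1) e
    simp [SpecialLinearGroup.diag2n_coe] at this
    exact hne this

end Cfsg.Agent.S1340
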