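import Cfsg.Statements.S3154
import Cfsg.Agent.Lib.L34.Final
import Cfsg.Agent.Lib.Hay.Gas
import Cfsg.Agent.Lib.Ito.SL2Even

set_option autoImplicit false
open Cfsg

namespace Cfsg.Agent.S3154

open Subgroup Cfsg.Lib Cfsg.Lib.L34 Cfsg.Lib.FT Matrix Function
open scoped MatrixGroups

section

variable {F : Type*} [Field F]

local notation "π" => QuotientGroup.mk' (center SL(3, F))
local notation "L" => ProjectiveSpecialLinearGroup (Fin 3) F

theorem pi_eq {g h : SL(3, F)} : π g = π h ↔ ∃ r : F, g.1 = r • h.1 := by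
  rw [← mul_inv_eq_one, ← map_inv, ← map_mul, QuotientGroup.mk'_apply, QuotientGroup.eq_one_iff]
  have k : ∀ r : F, (g * h⁻¹).1 = r • 1 ↔ g.1 = r • h.1 := fun r => ⟨fun e => by
    rw [← inv_mul_cancel_right g h, Matrix.SpecialLinearGroup.coe_mul, e, smul_mul_assoc, one_mul], fun e => by
    rw [Matrix.SpecialLinearGroup.coe_mul, e, smul_mul_assoc, ← Matrix.SpecialLinearGroup.coe_mul,
      mul_inv_cancel, Matrix.SpecialLinearGroup.coe_one]⟩
  refine ⟨fun e => ?_, fun ⟨r, e⟩ => mem_center_iff.2 fun B => Subtype.ext ?_⟩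
  · obtain ⟨r, -, e⟩ := Matrix.SpecialLinearGroup.mem_center_iff.1 e
    exact ⟨r, (k r).1 (by rw [← e, scalar_apply, smul_one_eq_diagonal])⟩
  · rw [Matrix.SpecialLinearGroup.coe_mul, Matrix.SpecialLinearGroup.coe_mul (g * h⁻¹), (k r).2 e]; simp

/-- the Levi factor -/
def lev : SL(2, F) →* SL(3, F) where
  toFun M := ⟨!![1, 0, 0; 0, M 0 0, M 0 1; 0, M 1 0, M 1 1], by simp [det_fin_three, h9_sl2_det]⟩
  map_one' := by ext i j; fin_cases i <;> fin_cases j <;> simp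
  map_mul' x y := Subtype.ext (by
    change !![1, 0, 0; 0, (x * y) 0 0, (x * y) 0 1; 0, (x * y) 1 0, (x * y) 1 1] =
      !![1, 0, 0; 0, x 0 0, x 0 1; 0, x 1 0, x 1 1] * !![1, 0, 0; 0, y 0 0, y 0 1; 0, y 1 0, y 1 1]
    simp [h9_sl2_mul_apply])

theorem u_val (a b c : F) : (Heis3.toSL ⟨a, b, c⟩).1 = !![1, a, c; 0, 1, b; 0, 0, 1] := rfl

theorem lev_val (M : SL(2, F)) : (lev M).1 = !![1, 0, 0; 0, M 0 0, M 0 1; 0, M 1 0, M 1 1] := rfl

theorem lev_comm (M : SL(2, F)) (a c : F) : Heis3.toSL ⟨a, 0, c⟩ * lev M =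
    lev M * Heis3.toSL ⟨a * M 0 0 + c * M 1 0, 0, a * M 0 1 + c * M 1 1⟩ := by
  apply Subtype.ext
  simp [u_val, lev_val]

/-- the graph automorphism -/
def tau : SL(3, F) →* SL(3, F) where
  toFun g := ⟨(g⁻¹).1ᵀ.submatrix Fin.revPerm Fin.revPerm, by rw [det_submatrix_equiv_self, det_transpose, g⁻¹.2]⟩
  map_one' := Subtype.ext (by simp)
  map_mul' x y := Subtype.ext (by
    change (x * y)⁻¹.1ᵀ.submatrix _ _ = _ * _
    rw [submatrix_mul_equiv, ← transpose_mul, _root_.mul_inv_rev, Matrix.SpecialLinearGroup.coe_mul])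

theorem tau_u (a b c : F) : tau (Heis3.toSL ⟨a, b, c⟩) = Heis3.toSL ⟨-b, -a, -c + a * b⟩ := by
  apply Subtype.ext
  change (Heis3.toSL _)⁻¹.1ᵀ.submatrix _ _ = _
  rw [← map_inv]
  ext i j; fin_cases i <;> fin_cases j <;> rfl

variable [Fintype F]

theorem std (hF : Nat.card F = 4) : ∃ (U : UT F L) (t : L ≃* L) (j : SL(2, F) →* L),
    U.A.map t = U.B ∧ U.B.map t = U.A ∧ (∀ x ∈ U.A, x ≠ 1 → IsConj (U.u 1 0 0) x) ∧
      (∀ M, j M ∈ N[U.A]) ∧ (∀ M, j M ∈ U.A → M = 1) ∧ ∀ n ∈ N[U.A], ∃ M, (j M)⁻¹ * n ∈ U.A := by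
  obtain ⟨S, hS⟩ := Heis3.exists_sylow (f_two hF)
  obtain ⟨U, hU⟩ : ∃ U : UT F L, ∀ a b c, U.u a b c = π (Heis3.toSL ⟨a, b, c⟩) :=
    ⟨UT.ofHeis hF S ((MonoidHom.ofInjective Heis3.toPSL_injective).trans (MulEquiv.subgroupCongr hS.symm)),
      fun _ _ _ => rfl⟩
  have ti : Injective (tau (F := F)) := fun x y h => inv_injective (Subtype.ext (transpose_injective
    ((reindex Fin.revPerm.symm Fin.revPerm.symm).injective (congrArg Subtype.val h))))
  obtain ⟨t, ht⟩ : ∃ t : L ≃* L, ∀ a b c, t (U.u a b c) = U.u (-b) (-a) (-c + a * b) :=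
    ⟨QuotientGroup.congr _ _ (MulEquiv.ofBijective tau (Finite.injective_iff_bijective.1 ti))
      (characteristic_iff_map_eq.1 inferInstance _), fun a b c => by rw [hU, hU, ← tau_u]; rfl⟩
  have cj : ∀ (M : SL(2, F)) a c, U.u a 0 c * π (lev M) =
      π (lev M) * U.u (a * M 0 0 + c * M 1 0) 0 (a * M 0 1 + c * M 1 1) := fun M a c => by
    rw [hU, hU, ← map_mul, lev_comm, map_mul]
  refine ⟨U, t, (π).comp lev, le_antisymm ?_ ?_, le_antisymm ?_ ?_, ?_, fun M => ?_, ?_, fun n hn => ?_⟩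
  · rintro _ ⟨_, ⟨a, c, rfl⟩, rfl⟩; simp [ht]
  · rintro _ ⟨b, c, rfl⟩; exact ⟨U.u (-b) 0 (-c), by simp, by simp [ht]⟩
  · rintro _ ⟨_, ⟨a, c, rfl⟩, rfl⟩; simp [ht]
  · rintro _ ⟨b, c, rfl⟩; exact ⟨U.u 0 (-b) (-c), by simp, by simp [ht]⟩
  · rintro _ ⟨a, c, rfl⟩ h
    obtain ⟨M, h1, h2⟩ : ∃ M : SL(2, F), M 0 0 = a ∧ M 0 1 = c := by
      by_cases ha : a = 0
      · have hc : c ≠ 0 := fun hc => h (by simp [ha, hc])
        exact ⟨h9_mk a c (-c⁻¹) 0 (by simp [hc]), rfl, rfl⟩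
      · exact ⟨h9_mk a c 0 a⁻¹ (by simp [ha]), rfl, rfl⟩
    exact isConj_iff.2 ⟨(π (lev M))⁻¹, by rw [inv_inv, mul_assoc, cj]; simp [h1, h2]⟩
  · refine inv_mem_iff.1 (UT.mem_N_of_le ?_)
    rintro _ ⟨_, ⟨a, c, rfl⟩, rfl⟩
    change (π (lev M))⁻¹ * _ * (π (lev M))⁻¹⁻¹ ∈ _
    rw [inv_inv, mul_assoc, cj]; simp
  · rintro M ⟨a, c, h⟩
    obtain ⟨r, e⟩ := pi_eq.1 ((hU ..).symm.trans h)
    have := fun i j => congrFun (congrFun e i) j
    have h0 := this 0 0
    have h1 := this 1 1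
    have h2 := this 1 2
    have h3 := this 2 1
    have h4 := this 2 2
    simp [u_val, lev_val] at h0 h1 h2 h3 h4
    subst h0
    exact h9_sl2_ext (by simpa using h1.symm) (by simpa using h2) (by simpa using h3) (by simpa using h4.symm)
  · obtain ⟨g, rfl⟩ := QuotientGroup.mk'_surjective (center SL(3, F)) n
    obtain ⟨a, c, h⟩ := (mem_normalizer_iff.1 hn (U.u 1 0 0)).1 (by simp)
    rw [eq_mul_inv_iff_mul_eq, hU, hU, ← map_mul, ← map_mul] at h
    obtain ⟨r, e⟩ := pi_eq.1 h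
    have := fun i j => congrFun (congrFun e i) j
    have h0 := this 1 0
    have h1 := this 1 1
    have h2 := this 2 0
    have h3 := this 2 1
    simp only [Matrix.SpecialLinearGroup.coe_mul, u_val, Matrix.mul_apply, Fin.sum_univ_three,
      Matrix.smul_apply, smul_eq_mul, of_apply, cons_val', cons_val, cons_val_fin_one] at h0 h1 h2 h3
    have d := g.2
    have r0 : r ≠ 0 := fun r0 => by simpa [r0] using congrArg det e
    have g1 : g 1 0 = 0 := mul_self_eq_zero.1 (mul_left_cancel₀ r0 (by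
      linear_combination (g 1 1) * h0 - g 1 0 * h1))
    have g2 : g 2 0 = 0 := mul_self_eq_zero.1 (mul_left_cancel₀ r0 (by
      linear_combination (g 2 1) * h2 - g 2 0 * h3))
    rw [det_fin_three, g1, g2] at d
    have l3 := f_cube hF (x := g 0 0) fun h => by simp [h] at d
    refine ⟨h9_mk (g 0 0 ^ 2 * g 1 1) (g 0 0 ^ 2 * g 1 2) (g 0 0 ^ 2 * g 2 1) (g 0 0 ^ 2 * g 2 2)
      (by linear_combination g 0 0 ^ 3 * d + l3), g 0 0 ^ 2 * g 0 1, g 0 0 ^ 2 * g 0 2, ?_⟩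
    rw [eq_inv_mul_iff_mul_eq, hU, MonoidHom.comp_apply, ← map_mul]
    refine pi_eq.2 ⟨g 0 0 ^ 2, ?_⟩
    ext i j
    fin_cases i <;> fin_cases j <;> simp [u_val, lev_val, g1, g2]
    linear_combination -l3

end

section

variable {X L J F : Type*} [Group X] [Finite X] [Group L] [Finite L] [Group J] [Field F] {U : UT F L}
  {ψ : X →* L} (hs : Surjective ψ) (hk : ψ.ker = center X)

theorem ea_compl {H K : Subgroup X} (h2 : ∀ x ∈ K, x * x = 1) :
    ∃ A ≤ K, (∀ a ∈ A, a ∈ H → a = 1) ∧ ∀ x ∈ K, ∃ a ∈ A, x * a ∈ H := by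
  obtain ⟨A, ⟨h1, h3⟩, hm⟩ := exists_maximal_of_wellFoundedGT
    (fun A : Subgroup X => A ≤ K ∧ ∀ a ∈ A, a ∈ H → a = 1) ⟨⊥, bot_le, fun a h _ => mem_bot.1 h⟩
  have i : ∀ x ∈ K, x⁻¹ = x := fun x hx => inv_eq_of_mul_eq_one_right (h2 x hx)
  have c : ∀ x ∈ K, ∀ y ∈ K, x * y = y * x := fun x hx y hy => by
    rw [← i _ (mul_mem hx hy), _root_.mul_inv_rev, i x hx, i y hy]
  refine ⟨A, h1, h3, fun x hx => ?_⟩
  by_contra! h
  have m : ∀ y, x * y ∈ A → y ∈ K := fun y hy => (mul_mem_cancel_left hx).1 (h1 hy)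
  let A' : Subgroup X :=
    { carrier := {y | y ∈ A ∨ x * y ∈ A}
      one_mem' := .inl (one_mem _)
      mul_mem' := by
        rintro y z (hy | hy) (hz | hz)
        · exact .inl (mul_mem hy hz)
        · exact .inr (by rw [← mul_assoc, c x hx y (h1 hy), mul_assoc]; exact mul_mem hy hz)
        · exact .inr (by rw [← mul_assoc]; exact mul_mem hy hz)
        · refine .inl ?_
          have := mul_mem hy hz
          rwa [c x hx y (m y hy), mul_assoc, ← mul_assoc x, h2 x hx, one_mul] at this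
      inv_mem' := by
        rintro y (hy | hy)
        · exact .inl (inv_mem hy)
        · exact .inr (by rwa [i y (m y hy)]) }
  have := hm (y := A') ⟨fun y hy => hy.elim (h1 ·) (m y), fun y hy hH => hy.elim (h3 y · hH) fun hy =>
    (h _ hy (by rwa [← mul_assoc, h2 x hx, one_mul])).elim⟩ fun y hy => .inl hy
  exact h x (this (.inr (by rw [h2 x hx]; exact one_mem _))) (by rw [h2 x hx]; exact one_mem _)

include hs hk

theorem ea (hZ : ∀ z ∈ center X, z * z = 1) (tr : ∀ x ∈ U.A, x ≠ 1 → IsConj (U.u 1 0 0) x) :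
    ∀ x ∈ U.A.comap ψ, x * x = 1 := by
  have z : ∀ x, ψ x = 1 → x ∈ center X := fun x h => hk ▸ h
  obtain ⟨x, hx⟩ := hs (U.u 1 0 0)
  have k : ∀ y, ψ y ∈ U.A → ψ y ≠ 1 → y * y = x * x := fun y h1 h2 => by
    obtain ⟨g, e⟩ := isConj_iff.1 (tr _ h1 h2)
    obtain ⟨g, rfl⟩ := hs g
    have c := z ((g * x * g⁻¹)⁻¹ * y) (by simp only [map_mul, map_inv, hx, e, inv_mul_cancel])
    have c2 := z (x * x) (by rw [map_mul, hx, U.sqA (by simp)])
    rw [← mul_inv_cancel_left (g * x * g⁻¹) y,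
      (show Commute _ _ from (mem_center_iff.1 c _).symm).mul_mul_mul_comm, hZ _ c, conj_mul,
      mem_center_iff.1 c2, mul_one, mul_inv_cancel_right]
  obtain ⟨o, ho⟩ := f_om U.hF
  have o0 : o ≠ 0 := fun h => by simp [h] at ho
  have o1 : o + 1 ≠ 0 := fun h => o0 (by linear_combination (o + 1) * ho - (o ^ 2 + o + 1) * h + o * ho - o ^ 2 * h)
  obtain ⟨y, hy⟩ := hs (U.u 0 0 1)
  obtain ⟨w, hw⟩ := hs (U.u 0 0 o)
  have e1 := k (x * y) (by simp [hx, hy, U.mul]) (by simp [hx, hy, U.mul, U.u_eq_one])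
  have e2 := k (x * w) (by simp [hx, hw, U.mul]) (by simp [hx, hw, U.mul, U.u_eq_one])
  have e3 := k (x * (y * w)) (by simp [hx, hy, hw, U.mul]) (by simp [hx, hy, hw, U.mul, U.u_eq_one])
  have e4 := k (w * y) (by simp [hw, hy, U.mul]) (by simp [hw, hy, U.mul, U.u_eq_one, o1])
  have e5 := k w (by simp [hw]) (by simp [hw, U.u_eq_one, o0])
  have e6 := k y (by simp [hy]) (by simp [hy, U.u_eq_one])
  have f : ∀ y, x * y * (x * y) = x * x → y * x = x * y⁻¹ := fun y h => by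
    rw [mul_assoc, mul_right_inj, ← mul_assoc] at h; exact eq_mul_inv_of_mul_eq h
  have c : y * w = w * y := by
    have := f _ e3
    rw [mul_assoc, f _ e2, ← mul_assoc, f _ e1, mul_assoc, mul_right_inj, ← _root_.mul_inv_rev,
      _root_.inv_inj] at this
    exact this.symm
  have : x * x = 1 := by
    rw [(show Commute y w from c).mul_mul_mul_comm, e5, e6] at e4
    simpa using e4
  intro v hv
  by_cases h : ψ v = 1
  · exact hZ v (z v h)
  · rw [k v hv h, this]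

theorem split (hZ : ∀ z ∈ center X, z * z = 1) (T : Sylow 2 X) (hT : (T : Subgroup X).map ψ = U.S)
    (hH : ∀ x ∈ U.A.comap ψ, x * x = 1) (hK : ∀ x ∈ U.B.comap ψ, x * x = 1) (j : J →* L)
    (j1 : ∀ M, j M ∈ N[U.A]) (j2 : ∀ M, j M ∈ U.A → M = 1) (j3 : ∀ n ∈ N[U.A], ∃ M, (j M)⁻¹ * n ∈ U.A) :
    ∃ C ≤ N[U.A.comap ψ], C ⊓ U.A.comap ψ = ⊥ ∧ U.A.comap ψ ⊔ C = N[U.A.comap ψ] ∧ Nonempty (C ≃* J) := by
  obtain ⟨H, eH⟩ : ∃ H, H = U.A.comap ψ := ⟨_, rfl⟩
  have eN : N[H] = N[U.A].comap ψ := eH ▸ (comap_normalizer_eq_of_surjective _ hs).symm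
  rw [← eH] at hH ⊢
  have pH : IsPGroup 2 H := fun x => ⟨1, Subtype.ext (by simpa [sq] using hH x x.2)⟩
  have ZT : ψ.ker ≤ T := hk ▸ IsPGroup.le_sylow_of_normal (fun x => ⟨1, Subtype.ext (by simpa [sq] using hZ x x.2)⟩) T
  have eT : (T : Subgroup X) = U.S.comap ψ := by rw [← hT, comap_map_eq_self ZT]
  have TN : (T : Subgroup X) ≤ N[H] := by rw [eT, eN]; exact comap_mono U.S_le_NA
  obtain ⟨A, h1, h2, h3⟩ := ea_compl (H := H) hK
  have AN : A ≤ N[H] := h1.trans (le_trans (eT ▸ comap_mono U.B_le) TN)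
  have i : ∀ x ∈ H, x⁻¹ = x := fun x hx => inv_eq_of_mul_eq_one_right (hH x hx)
  obtain ⟨C, c1, c2⟩ := Hay.gaschutz (H.subgroupOf N[H]) ((T : Subgroup X).subgroupOf N[H])
    (fun a ha b hb => Subtype.ext (show a.1 * b.1 = b.1 * a.1 by
      rw [← i (a.1 * b.1) (mul_mem ha hb), _root_.mul_inv_rev, i a.1 ha, i b.1 hb]))
    (subgroupOf_mono _ (by rw [eH, eT]; exact comap_mono U.A_le)) (by
      obtain ⟨k, hk⟩ := IsPGroup.iff_card.1 (pH.comap_of_injective N[H].subtype (subtype_injective _))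
      rw [show Nat.card (H.subgroupOf N[H]) = 2 ^ k from hk]
      exact Nat.Coprime.pow_left k ((Nat.Prime.coprime_iff_not_dvd Nat.prime_two).2
        (T.subtype TN).not_dvd_index)) (A.subgroupOf N[H]) (fun a ha hH => Subtype.ext (h2 a ha hH))
    fun x hx => by
      obtain ⟨a, b, c, e⟩ : ψ x ∈ U.S := by rw [mem_subgroupOf, eT] at hx; exact hx
      obtain ⟨y, hy⟩ := hs (U.u 0 b 0)
      obtain ⟨v, hv, h⟩ := h3 y⁻¹ (inv_mem (by simp [hy]))
      refine ⟨x * ⟨v, AN hv⟩⁻¹, ?_, ⟨v, AN hv⟩, hv, by simp⟩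
      have : x.1 * y⁻¹ ∈ H := by simp [eH, ← e, hy, U.u_inv, U.mul, CharTwo.add_self_eq_zero, U.two, ← two_mul]
      have h4 := (mem_normalizer_iff.1 (AN hv) _).1 (inv_mem h)
      simpa [mul_assoc, mem_subgroupOf] using mul_mem this h4
  refine ⟨C.map N[H].subtype, map_subtype_le _, eq_bot_iff.2 ?_, le_antisymm (sup_le le_normalizer
    (map_subtype_le _)) fun g hg => ?_, ?_⟩
  · rintro _ ⟨⟨a, ha, rfl⟩, h⟩
    exact congrArg Subtype.val (c1 a ha h)
  · obtain ⟨k, hk, a, ha, e⟩ := c2 ⟨g, hg⟩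
    rw [show g = k.1 * a.1 from congrArg Subtype.val e]
    exact mul_mem_sup hk ⟨a, ha, rfl⟩
  let q := QuotientGroup.mk' (U.A.subgroupOf N[U.A])
  have q1 : ∀ x, q x = 1 ↔ x.1 ∈ U.A := fun x => QuotientGroup.eq_one_iff _
  have b1 : Bijective (q.comp (j.codRestrict _ j1)) := ⟨(injective_iff_map_eq_one _).2 fun M h =>
    j2 M ((q1 _).1 h), fun x => by
      obtain ⟨x, rfl⟩ := QuotientGroup.mk'_surjective _ x
      obtain ⟨M, h⟩ := j3 x x.2
      exact ⟨M, QuotientGroup.eq.2 h⟩⟩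
  have b2 : Bijective (q.comp ((ψ.comp (N[H].subtype.comp C.subtype)).codRestrict N[U.A]
      fun x => (eN.le x.1.2 :))) := ⟨(injective_iff_map_eq_one _).2 fun M h =>
    Subtype.ext (c1 M M.2 (eH.ge ((q1 _).1 h))), fun x => by
      obtain ⟨⟨x, hx⟩, rfl⟩ := QuotientGroup.mk'_surjective _ x
      obtain ⟨g, rfl⟩ := hs x
      obtain ⟨k, hk, a, ha, e⟩ := c2 ⟨g, eN.ge hx⟩⁻¹
      refine ⟨⟨a, ha⟩⁻¹, QuotientGroup.eq.2 ?_⟩
      have : a.1 * g ∈ H := by
        rw [show a.1 * g = k.1⁻¹ by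
          rw [eq_inv_iff_mul_eq_one, mul_assoc, mul_eq_one_comm, mul_assoc, ← coe_mul, ← e]; simp]
        exact inv_mem hk
      rw [map_inv, inv_inv]
      exact (map_mul ψ a.1 g ▸ mem_comap.1 (eH.le this) :)⟩
  exact ⟨((C.equivMapOfInjective _ (subtype_injective _)).symm.trans (MulEquiv.ofBijective _ b2)).trans
    (MulEquiv.ofBijective _ b1).symm⟩

end


/-- Let X be a finite quasisimple group whose centre is an elementary abelian 2-group and whose central quotient is isomorphic to the projective special linear group of dimension 3 over the field with 4 elements. Let T be a Sylow 2-subgroup of X and H ≠ K subgroups of T containing the centre Z(X) whose images in X/Z(X) are elementary abelian of order 16 (the two such subgroups of a Sylow 2-subgroup of the quotient). Then H and K are elementary abelian, H ∩ K is the centre of the subgroup they generate, and each of N_X(H), N_X(K) is a split extension of H, respectively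 K, by the projective special linear group of dimension 2 over the field with 4 elements (there is a complement isomorphic to that group). -/
theorem result {X : Type*} [Group X] [Finite X] (hq : Cfsg.IsQuasisimple X) (hZ : Cfsg.IsElementaryAbelian 2 (Subgroup.center X))
    {F : Type*} [Field F] [Fintype F] (hF : Fintype.card F = 4) (hXL : Nonempty ((X ⧸ Subgroup.center X) ≃* Matrix.ProjectiveSpecialLinearGroup (Fin 3) F))
    (T : Sylow 2 X) (H K : Subgroup X) (hHK : H ≠ K) (hHT : H ≤ T) (hKT : K ≤ T) (hZH : Subgroup.center X ≤ H) (hZK : Subgroup.center X ≤ K)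
    (hH : Cfsg.IsElementaryAbelian 2 (H.map (QuotientGroup.mk' (Subgroup.center X))) ∧ Nat.card ↥(H.map (QuotientGroup.mk' (Subgroup.center X))) = 16)
    (hK : Cfsg.IsElementaryAbelian 2 (K.map (QuotientGroup.mk' (Subgroup.center X))) ∧ Nat.card ↥(K.map (QuotientGroup.mk' (Subgroup.center X))) = 16) :
    Cfsg.IsElementaryAbelian 2 H ∧ Cfsg.IsElementaryAbelian 2 K ∧
      H ⊓ K = (Subgroup.center ↥(H ⊔ K)).map (H ⊔ K).subtype ∧
      (∃ C : Subgroup X, C ≤ Subgroup.normalizer (H : Set X) ∧ C ⊓ H = ⊥ ∧ H ⊔ C = Subgroup.normalizer (H : Set X) ∧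
        Nonempty (↥C ≃* Matrix.ProjectiveSpecialLinearGroup (Fin 2) F)) ∧
      (∃ C : Subgroup X, C ≤ Subgroup.normalizer (K : Set X) ∧ C ⊓ K = ⊥ ∧ K ⊔ C = Subgroup.normalizer (K : Set X) ∧
        Nonempty (↥C ≃* Matrix.ProjectiveSpecialLinearGroup (Fin 2) F)) := by
  obtain ⟨e⟩ := hXL
  have h4 : Nat.card F = 4 := by rw [Nat.card_eq_fintype_card, hF]
  obtain ⟨U, t, j, tA, tB, tr, j1, j2, j3⟩ := std h4
  have hZ' : ∀ z ∈ center X, z * z = 1 := fun z hz => by simpa [sq] using hZ.2 z hz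
  have e2 : SL(2, F) ≃* ProjectiveSpecialLinearGroup (Fin 2) F := QuotientGroup.quotientBot.symm.trans
    (QuotientGroup.quotientMulEquivOfEq (Ito.center_sl_even U.two).symm)
  have tS : U.S.map t = U.S := by rw [← U.sup_eq, Subgroup.map_sup, tA, tB, sup_comm]
  have sw : ∀ ψ : X →* ProjectiveSpecialLinearGroup (Fin 3) F, Surjective ψ → ψ.ker = center X →
      (T : Subgroup X).map ψ = U.S → ∃ φ : X →* ProjectiveSpecialLinearGroup (Fin 3) F, Surjective φ ∧
        φ.ker = center X ∧ (T : Subgroup X).map φ = U.S ∧ U.A.comap φ = U.B.comap ψ ∧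
          U.B.comap φ = U.A.comap ψ := fun ψ h1 h2 h3 =>
    ⟨(t : _ →* _).comp ψ, t.surjective.comp h1, by rw [← h2]; ext; simp, by rw [← Subgroup.map_map, h3, tS],
      by rw [← comap_comap, ← tB, comap_map_eq_self_of_injective t.injective],
      by rw [← comap_comap, ← tA, comap_map_eq_self_of_injective t.injective]⟩
  obtain ⟨ψ, h1, h2, h3, rfl, rfl⟩ : ∃ ψ : X →* ProjectiveSpecialLinearGroup (Fin 3) F, Surjective ψ ∧
      ψ.ker = center X ∧ (T : Subgroup X).map ψ = U.S ∧ H = U.A.comap ψ ∧ K = U.B.comap ψ := by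
    have s0 := e.surjective.comp (QuotientGroup.mk'_surjective (center X))
    obtain ⟨S, hS⟩ := U.p_S.exists_le_sylow
    obtain ⟨g, hg⟩ := MulAction.exists_smul_eq (ProjectiveSpecialLinearGroup (Fin 3) F)
      (T.mapSurjective (f := (e : _ →* _).comp (QuotientGroup.mk' (center X))) s0) S
    obtain ⟨e', he⟩ : ∃ e' : X ⧸ center X ≃* ProjectiveSpecialLinearGroup (Fin 3) F,
        (T : Subgroup X).map ((e' : _ →* _).comp (QuotientGroup.mk' (center X))) = U.S := by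
      refine ⟨e.trans (MulAut.conj g), ?_⟩
      rw [show U.S = S from le_antisymm hS (U.max S S.isPGroup' fun a b c => hS (U.uS a b c)), ← hg]
      exact (Subgroup.map_map (T : Subgroup X) (MulAut.conj g).toMonoidHom
        ((e : _ →* _).comp (QuotientGroup.mk' (center X)))).symm
    obtain ⟨ψ, hψ⟩ : ∃ ψ : X →* ProjectiveSpecialLinearGroup (Fin 3) F,
      ψ = (e' : X ⧸ center X →* _).comp (QuotientGroup.mk' (center X)) := ⟨_, rfl⟩
    have k : ψ.ker = center X := by ext; simp [hψ]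
    have s : Surjective ψ := hψ ▸ e'.surjective.comp (QuotientGroup.mk'_surjective (center X))
    rw [← hψ] at he
    have m : ∀ E : Subgroup X, E ≤ T → center X ≤ E → IsElementaryAbelian 2 (E.map (QuotientGroup.mk' (center X))) ∧
        Nat.card (E.map (QuotientGroup.mk' (center X))) = 16 → E = U.A.comap ψ ∨ E = U.B.comap ψ :=
      fun E h1 h2 h3 => by
        refine (U.e16 (E := E.map ψ) (he ▸ map_mono h1) ?_ ?_).imp
          (fun h => by rw [← h, comap_map_eq_self (k ▸ h2)]) fun h => by rw [← h, comap_map_eq_self (k ▸ h2)]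
        · rintro _ ⟨x, hx, rfl⟩
          rw [hψ, MonoidHom.comp_apply, ← map_mul, ← sq, h3.1.2 _ (mem_map_of_mem _ hx), map_one]
        · rw [hψ, ← Subgroup.map_map, card_map_of_injective e'.injective, h3.2]
    rcases m H hHT hZH hH with a | a <;> rcases m K hKT hZK hK with b | b
    · exact (hHK (a.trans b.symm)).elim
    · exact ⟨ψ, s, k, he, a, b⟩
    · obtain ⟨φ, h1, h2, h3, h4, h5⟩ := sw ψ s k he
      exact ⟨φ, h1, h2, h3, h4 ▸ a, h5 ▸ b⟩
    · exact (hHK (a.trans b.symm)).elim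
  obtain ⟨φ, g1, g2, g3, g4, g5⟩ := sw ψ h1 h2 h3
  have a1 := ea h1 h2 hZ' tr
  have a2 := g4 ▸ ea g1 g2 hZ' tr
  have E : ∀ A : Subgroup X, (∀ x ∈ A, x * x = 1) → ∀ x ∈ A, ∀ y ∈ A, x * y = y * x := fun A h x hx y hy => by
    rw [← inv_eq_of_mul_eq_one_right (h _ (mul_mem hx hy)), _root_.mul_inv_rev,
      inv_eq_of_mul_eq_one_right (h x hx), inv_eq_of_mul_eq_one_right (h y hy)]
  have E' : ∀ A : Subgroup X, (∀ x ∈ A, x * x = 1) → IsElementaryAbelian 2 A := fun A h =>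
    ⟨⟨⟨fun x y => Subtype.ext (E A h x x.2 y y.2)⟩⟩, fun x hx => by rw [sq, h x hx]⟩
  obtain ⟨C, c1, c2, c3, ⟨c4⟩⟩ := split h1 h2 hZ' T h3 a1 a2 j j1 j2 j3
  obtain ⟨D, d1, d2, d3, ⟨d4⟩⟩ := split g1 g2 hZ' T g3 (g4 ▸ a2) (g5 ▸ a1) j j1 j2 j3
  refine ⟨E' _ a1, E' _ a2, le_antisymm (fun x hx => ?_) ?_, ⟨C, c1, c2, c3, ⟨c4.trans e2⟩⟩, g4 ▸ ⟨D, d1, d2, d3, ⟨d4.trans e2⟩⟩⟩
  · have : U.A.comap ψ ⊔ U.B.comap ψ ≤ C1[x] := sup_le (fun y hy => mem_centralizer_singleton_iff.2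
      (E _ a1 y hy x hx.1)) fun y hy => mem_centralizer_singleton_iff.2 (E _ a2 y hy x hx.2)
    exact ⟨⟨x, mem_sup_left hx.1⟩, mem_center_iff.2 fun y =>
      Subtype.ext (mem_centralizer_singleton_iff.1 (this y.2)), rfl⟩
  · rintro _ ⟨x, hx, rfl⟩
    have hS : ψ x ∈ U.S := sup_le (comap_mono U.A_le) (comap_mono U.B_le) x.2
    obtain ⟨a, a3, a4⟩ := U.exists_A
    obtain ⟨b, b3, b4⟩ := U.exists_B
    obtain ⟨a, rfl⟩ := h1 a
    obtain ⟨b, rfl⟩ := h1 b
    have c : ∀ y ∈ U.A.comap ψ ⊔ U.B.comap ψ, ψ y * ψ x = ψ x * ψ y := fun y hy => by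
      rw [← map_mul, ← map_mul]; exact congrArg (ψ ·.1) (mem_center_iff.1 hx ⟨y, hy⟩)
    exact ⟨U.mem_A_of_comm a3 a4 hS (c a (mem_sup_left a3)), by
      simpa using U.swap.mem_A_of_comm (by simpa using b3) (by simpa using b4) (by simpa using hS)
        (c b (mem_sup_right b3))⟩

end Cfsg.Agent.S3154
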