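import Cfsg.Statements.S3177
import Mathlib
import Cfsg.Agent.Lib.UT.Final

set_option autoImplicit false
open Cfsg

namespace Cfsg.Agent.S3177
open Cfsg.Lib

/-- Let n ≥ 3 and let G be a finite group whose Sylow 2-subgroups are isomorphic to those of PSU(3, 2^n), realised over the field with 4^n elements. Then either G is solvable of 2-length at most one, or the quotient of G by its largest normal subgroup of odd order has a normal subgroup of odd index isomorphic to PSU(3, 2^n). -/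
theorem result {G : Type*} [Group G] [Finite G]
    (n : ℕ) (hn : 3 ≤ n) {F : Type*} [Field F] [Fintype F] (hF : Fintype.card F = 4 ^ n)
    (S : Sylow 2 G) (P : Sylow 2 (Cfsg.PSU 3 F (2 ^ n)))
    (hS : Nonempty (↥(S : Subgroup G) ≃* ↥(P : Subgroup (Cfsg.PSU 3 F (2 ^ n))))) :
    (Group.IsSolvable G ∧ Cfsg.PLengthLE 2 1 G) ∨
      ∃ N : Subgroup (G ⧸ Cfsg.oddCore G), N.Normal ∧ Odd N.index ∧ Nonempty (↥N ≃* Cfsg.PSU 3 F (2 ^ n)) := by
  obtain ⟨e⟩ := hS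
  have hG := (Cfsg.Lib.UT.TU.of_one (Cfsg.Lib.IsSylowIn.of_sylow_top S)
    ((Cfsg.Lib.UT.isUT_psu hF P).map e.symm)).quot
  refine (hG.classify hn Cfsg.Lib.pPrimeCore_quotient_pPrimeCore).imp ?_ ?_
  · rintro ⟨T, hT, h⟩
    refine ⟨Cfsg.Lib.isSolvable_of_normal_quotient (oddCore G)
      (Cfsg.Lib.FT.odd_order_solvable Cfsg.Lib.odd_card_oddCore)
      (Cfsg.Lib.UT.isSolvable_of_normal_sylow hT), Cfsg.Lib.FT.bg1_21b_quot (oddCore G)
      (Nat.two_dvd_ne_zero.2 (Nat.odd_iff.1 Cfsg.Lib.odd_card_oddCore)) ?_⟩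
    exact Cfsg.Lib.FT.pLengthLE_top_iff.1
      (Cfsg.Lib.FT.pLength_one_of_le_normalizer hT Subgroup.le_normalizer_of_normal)
  · rintro ⟨N, h1, h2, F', _, _, h3, ⟨f⟩⟩
    obtain ⟨g⟩ := Cfsg.Lib.R2.psu_congr (F := F') (F' := F)
      (by rw [h3, hF, ← pow_mul, mul_comm, pow_mul]; rfl) 3 (2 ^ n)
    exact ⟨N, h1, h2, ⟨f.trans g⟩⟩

end Cfsg.Agent.S3177
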