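import Cfsg.Statements.S3181
import Cfsg.Agent.Lib.CI2.Final
import Cfsg.Agent.Lib.SC.Solv

set_option autoImplicit false
open Cfsg

namespace Cfsg.Agent.S3181

open Subgroup Cfsg.Lib Cfsg.Lib.FT Cfsg.Lib.Suz Cfsg.Lib.CI2
open scoped commutatorElement

theorem exists_ne {G : Type*} [Group G] [Finite G] {S : Subgroup G} (hS : IsSylowIn 2 S ⊤)
    (h : ¬ S.Normal) : ∃ T, IsSylowIn 2 T ⊤ ∧ S ≠ T := by
  by_contra e
  push Not at e
  exact h (normalizer_eq_top_iff.1 (eq_top_iff.2 fun g _ =>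
    conj_eq_iff_mem_normalizer.1 (e _ (IsSylowIn.conj_top hS g)).symm))

theorem not_le_subgroupOf {G : Type*} [Group G] {S L : Subgroup G} (h : S ≤ L) (hna : ¬ S ≤ C[S]) :
    ¬ S.subgroupOf L ≤ C[S.subgroupOf L] := fun e => hna fun x hx =>
  mem_centralizer_iff.2 fun y hy => congrArg Subtype.val
    (mem_centralizer_iff.1 (e (show (⟨x, h hx⟩ : L) ∈ _ from hx)) ⟨y, h hy⟩ hy)

theorem odd_index {G : Type*} [Group G] [Finite G] {S L : Subgroup G} (hS : IsSylowIn 2 S ⊤) (h : S ≤ L) :
    Odd L.index := Nat.not_even_iff_odd.1 fun e => hS.not_dvd_relIndex (by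
  rw [relIndex_top_right]; exact (even_iff_two_dvd.1 e).trans (index_dvd_of_le h))

theorem isCyclic_subgroupOf {G : Type*} [Group G] {S L : Subgroup G} (h : S ≤ L) :
    IsCyclic ↥⁅S.subgroupOf L, S.subgroupOf L⁆ ↔ IsCyclic ↥⁅S, S⁆ := by
  rw [(equivMapOfInjective _ _ L.subtype_injective).isCyclic, map_commutator, map_subgroupOf_eq_of_le h]

theorem isCyclic_map {G X : Type*} [Group G] [Group X] {S : Subgroup G} (f : G →* X) (h : IsCyclic ↥⁅S, S⁆) :
    IsCyclic ↥⁅S.map f, S.map f⁆ :=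
  map_commutator S S f ▸ isCyclic_of_surjective _ (f.subgroupMap_surjective _)

theorem map_props {L Y : Type*} [Group L] [Group Y] (g : L →* Y) {S : Subgroup L} (hS : IsPGroup 2 S)
    (K : Subgroup L) : IsMulCommutative ((S ⊓ center L).map g) ∧ IsPGroup 2 ((S ⊓ center L).map g) ∧
      ∀ a ∈ (S ⊓ center L).map g, ∀ l ∈ K.map g, a * l = l * a := by
  have key : ∀ K : Subgroup L, ∀ a ∈ (S ⊓ center L).map g, ∀ l ∈ K.map g, a * l = l * a := by
    rintro K _ ⟨a, ha, rfl⟩ _ ⟨l, -, rfl⟩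
    rw [← map_mul, ← map_mul, mem_center_iff.1 ha.2]
  exact ⟨⟨⟨fun a b => Subtype.ext (key _ _ a.2 _ b.2)⟩⟩, (hS.to_le inf_le_left).map g, key K⟩

/-- Structure of finite groups with central Sylow 2-intersections. Let G be a finite group in which the intersection of any two distinct Sylow 2-subgroups is contained in the centre of some Sylow 2-subgroup. Then one of the following holds: G is solvable of 2-length at most one; the Sylow 2-subgroups of G are abelian; G has normal subgroups N < M with N of odd order and M of odd index such that M/N is a central product of an abelian 2-group and a group isomorphic to SL(2, 5); or G has a normal subgroup M of odd index which is either the direct product of an abelian 2-group with a group isomorphic to a Suzuki group Sz(2^(2m+1)) for some m ≥ 1, or to PSU(3, q) or SU(3, q) for some q = 2^n ≥ 4, or a central product of an abelian 2-group with a perfect group L with nontrivial centre whose central quotient is isomorphic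 to the Suzuki group Sz(8). -/
theorem result {G : Type*} [Group G] [Finite G]
    (hCI : ∀ S T : Sylow 2 G, S ≠ T → ∃ U : Sylow 2 G,
      (S : Subgroup G) ⊓ (T : Subgroup G) ≤ (Subgroup.center ↥(U : Subgroup G)).map (U : Subgroup G).subtype) :
    (Group.IsSolvable G ∧ Cfsg.PLengthLE 2 1 G) ∨
    (∀ S : Sylow 2 G, IsMulCommutative ↥(S : Subgroup G)) ∨
    (∃ (N M : Subgroup G) (_ : N.Normal) (_ : M.Normal) (_ : (N.subgroupOf M).Normal), N < M ∧ Odd (Nat.card ↥N) ∧ Odd M.index ∧
      ∃ A L : Subgroup (↥M ⧸ N.subgroupOf M), IsMulCommutative ↥A ∧ IsPGroup 2 ↥A ∧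
        Nonempty (↥L ≃* Matrix.SpecialLinearGroup (Fin 2) (ZMod 5)) ∧ (∀ a ∈ A, ∀ l ∈ L, a * l = l * a) ∧ A ⊔ L = ⊤) ∨
    (∃ (M : Subgroup G), M.Normal ∧ Odd M.index ∧ ∃ A L : Subgroup G, IsMulCommutative ↥A ∧ IsPGroup 2 ↥A ∧
      ((Cfsg.IsInternalDirectProduct A L M ∧
          ((∃ (m : ℕ) (F : Type) (_ : Field F) (_ : Fintype F), 1 ≤ m ∧ Fintype.card F = 2 ^ (2 * m + 1) ∧
              Nonempty (↥L ≃* ↥(Cfsg.Lie.Sz F (2 ^ (m + 1))))) ∨
            (∃ (n : ℕ) (F : Type) (_ : Field F) (_ : Fintype F), 2 ≤ n ∧ Fintype.card F = 4 ^ n ∧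
              (Nonempty (↥L ≃* Cfsg.PSU 3 F (2 ^ n)) ∨ Nonempty (↥L ≃* ↥(Cfsg.SU 3 F (2 ^ n))))))) ∨
        (A ≤ M ∧ L ≤ M ∧ (∀ a ∈ A, ∀ l ∈ L, a * l = l * a) ∧ A ⊔ L = M ∧ Group.IsPerfect ↥L ∧
          Subgroup.center ↥L ≠ ⊥ ∧
          ∃ (F : Type) (_ : Field F) (_ : Fintype F), Fintype.card F = 8 ∧
            Nonempty (↥L ⧸ Subgroup.center ↥L ≃* ↥(Cfsg.Lie.Sz F 4))))) := by
  replace hCI := cenInt_of_sylow hCI
  by_cases hab : ∀ S : Sylow 2 G, IsMulCommutative ↥(S : Subgroup G)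
  · exact .inr (.inl hab)
  obtain ⟨S, hS, hna⟩ : ∃ S : Subgroup G, IsSylowIn 2 S ⊤ ∧ ¬ S ≤ C[S] :=
    have ⟨S, h⟩ := not_forall.1 hab; ⟨S, .of_sylow_top S, mt le_centralizer_iff_isMulCommutative.1 h⟩
  have hs := QuotientGroup.mk'_surjective (pPrimeCore 2 G)
  have hk := QuotientGroup.ker_mk' (pPrimeCore 2 G)
  by_cases hn : (S.map (QuotientGroup.mk' (pPrimeCore 2 G))).Normal
  · have h1 := hn.comap (QuotientGroup.mk' (pPrimeCore 2 G))
    rw [comap_map_eq, hk] at h1
    exact .inl ⟨sc_solv_of_normal_sup hS h1, pLength_one_iff_index.2 (Odd.not_two_dvd_nat (odd_index hS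
      (map_le_iff_le_comap.1 (le_pCore hn (hS.isPGroup.map _)))))⟩
  refine .inr (.inr ?_)
  by_cases hc : IsCyclic ↥⁅S, S⁆
  · set π := QuotientGroup.mk' (pPrimeCore 2 G)
    have hS' := isSylowIn_map_top hs hS
    have hna' : ¬ S.map π ≤ C[S.map π] := fun e => hna (by
      rw [← commutator_eq_bot_iff_le_centralizer, ← map_commutator, Subgroup.map_eq_bot_iff, hk] at e
      exact commutator_eq_bot_iff_le_centralizer.1 (le_bot_iff.1 ((le_inf (commutator_le_self S) e).trans
        (inf_eq_bot_of_coprime (by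
          obtain ⟨k, hk⟩ := hS.isPGroup.exists_card_eq
          rw [hk]
          exact (Nat.prime_two.coprime_iff_not_dvd.2 not_dvd_card_pPrimeCore).pow_left k)).le)))
    replace hc := isCyclic_map π hc
    have hO := pPrimeCore_quotient_pPrimeCore (p := 2) (G := G)
    have hO' : S.map π ≤ C[pPrimeCore 2 _] := by rw [hO]; exact le_centralizer_iff.1 bot_le
    have hC := hCI.of_surjective hs
    generalize S.map π = S at hn hS' hna' hc hO'
    obtain ⟨T, hT, hne⟩ := exists_ne hS' hn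
    obtain ⟨h1, -, H, t, h⟩ := hC.exists_ext hS' hT hne hO' (hC.inf_le_pCore hS' hna' hO') rfl
    have h2 := h.sup_eq_top (eq_top_of_le hS')
    have h3 : S ≤ normalClosure (S : Set _) := le_normalClosure
    have h4 : (normalClosure (S : Set (G ⧸ pPrimeCore 2 G))).Normal := inferInstance
    set L := normalClosure (S : Set (G ⧸ pPrimeCore 2 G))
    have h5 : IsPGroup 2 (center L) := isPGroup_pCore.to_le (center_le_fitting.trans
      (fitting_eq_pCore_of_pPrimeCore_eq_bot 2 ((map_eq_bot_iff_of_injective _ L.subtype_injective).1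
        (le_bot_iff.1 ((pPrimeCoreOf_le_pPrimeCore_of_isSubnormal h4.isSubnormal).trans hO.le)))).le)
    obtain ⟨e⟩ := h.nonempty_sl2 ((h.ro.concl h.rk).2.resolve_right fun e => by
      obtain ⟨⟨x, hx, y, hy, e⟩, -⟩ := e
      refine not_isCyclic_commutator (isSylowIn_map_top h.surj h.syl) ?_ h.ro.center_eq_bot
        (fun x hx e => mem_centralizer_iff.2 fun y hy => (h.ro.invol_central h.rk hx e hy).symm)
        (fun e' => e (mem_centralizer_iff.1 (e' hy) x hx)) (isCyclic_map _ ((isCyclic_subgroupOf h3).2 hc))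
      obtain ⟨s, -, hs2, hs1⟩ := h.ro.exists_invol
      exact oddCore_eq_bot_of_simple (even_iff_two_dvd.2
        ((h9_orderOf_eq_two_iff.2 ⟨hs1, hs2⟩).symm.dvd.trans (_root_.orderOf_dvd_natCard s)))) (not_le_subgroupOf h3 hna')
      (by rwa [QuotientGroup.ker_mk'])
    rw [QuotientGroup.ker_mk'] at h2
    have h6 : (π.subgroupComap L).ker = (pPrimeCore 2 G).subgroupOf (L.comap π) :=
      Subgroup.ext fun x => Subtype.ext_iff.trans (QuotientGroup.eq_one_iff _)
    let g := ((QuotientGroup.quotientMulEquivOfEq h6.symm).trans (QuotientGroup.quotientKerEquivOfSurjective _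
      (π.subgroupComap_surjective_of_surjective L hs))).symm
    obtain ⟨a1, a2, a3⟩ := map_props g.toMonoidHom h.syl.isPGroup (commutator L)
    refine .inl ⟨pPrimeCore 2 G, L.comap π, inferInstance, inferInstance, inferInstance,
      lt_of_le_not_ge (hk.ge.trans (ker_le_comap π L)) fun e => hna' ?_,
      Nat.not_even_iff_odd.1 (mt even_iff_two_dvd.1 not_dvd_card_pPrimeCore),
      by rw [index_comap_of_surjective _ hs]; exact odd_index hS' h3, _, _, a1, a2,
      ⟨(equivMapOfInjective _ _ g.injective).symm.trans e⟩, a3, by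
        rw [← Subgroup.map_sup, h2, ← MonoidHom.range_eq_map, MonoidHom.range_eq_top.2 g.surjective]⟩
    have h7 := (Subgroup.map_eq_bot_iff _).2 (e.trans hk.ge)
    rw [map_comap_eq_self_of_surjective hs] at h7
    rw [le_bot_iff.1 (h3.trans h7.le)]
    exact bot_le
  have hO : S ≤ C[pPrimeCore 2 G] := by_contra fun e =>
    hc (hCI.isCyclic_commutator hS hna not_dvd_card_pPrimeCore le_normalizer_of_normal e).1
  obtain ⟨T, hT, hne⟩ := exists_ne hS fun e => hn (e.map _ hs)
  obtain ⟨h1, -, H, t, h⟩ := hCI.exists_ext hS hT hne hO (hCI.inf_le_pCore hS hna hO) rfl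
  have h2 := h.sup_eq_top (eq_top_of_le hS)
  have h3 : S ≤ normalClosure (S : Set _) := le_normalClosure
  have h4 : (normalClosure (S : Set G)).Normal := inferInstance
  set L := normalClosure (S : Set G)
  have h5 := h.classify ((h.ro.concl h.rk).2.resolve_left fun he => by
    obtain ⟨-, c, -, e⟩ := h.exists_le_zpowers he (not_le_subgroupOf h3 hna)
    exact hc ((isCyclic_subgroupOf h3).1 (isCyclic_of_le inferInstance e))).1
  rw [QuotientGroup.ker_mk'] at h2 h5
  obtain ⟨a1, a2, a3⟩ := map_props L.subtype h.syl.isPGroup (commutator L)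
  have e := (equivMapOfInjective (commutator L) _ L.subtype_injective).symm
  have a4 : (S.subgroupOf L ⊓ center L).map L.subtype ⊔ (commutator L).map L.subtype = L := by
    rw [← Subgroup.map_sup, h2, ← MonoidHom.range_eq_map, range_subtype]
  refine .inr ⟨L, h4, odd_index hS h3, _, (commutator L).map L.subtype, a1, a2, h5.imp (fun h6 =>
    ⟨⟨map_subtype_le _, map_subtype_le _, a3, by
      rw [← map_inf_eq _ _ _ L.subtype_injective, h6.1, Subgroup.map_bot], a4⟩, h6.2.imp ?_ ?_⟩)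
    fun ⟨h6, F, _, _, hF, ⟨e'⟩⟩ => ⟨map_subtype_le _, map_subtype_le _, a3, a4, ?_, fun h7 => h6 ?_,
      F, _, _, hF, (PC.nonempty_quotient_center_congr e).map (·.trans e')⟩⟩
  · exact fun ⟨m, hm, F, _, _, hF, ⟨e'⟩⟩ => ⟨m, F, _, _, hm, hF, ⟨e.trans e'⟩⟩
  · exact fun ⟨n, F, _, _, hn, hF, h7⟩ => ⟨n, F, _, _, hn, hF, h7.imp (.map e.trans) (.map e.trans)⟩
  · have := Group.isPerfect_def.2 h.perfect
    exact Group.IsPerfect.ofSurjective (f := e.symm.toMonoidHom) e.symm.surjective
  · refine eq_bot_iff.2 fun x hx => e.symm.map_eq_one_iff.1 (h7.le (mem_center_iff.2 fun y => ?_))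
    obtain ⟨y, rfl⟩ := e.symm.surjective y
    rw [← map_mul, ← map_mul, mem_center_iff.1 hx]

end Cfsg.Agent.S3181
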