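import Cfsg.Statements.S3186
import Cfsg.Agent.Lib.AbInt.Main

set_option autoImplicit false
open Cfsg

namespace Cfsg.Agent.S3186

/-- Let G be a non-abelian finite simple group in which the intersection of any two distinct Sylow 2-subgroups is abelian. Then a Sylow 2-subgroup of G is either dihedral (of order at least 4) or of nilpotency class at most two (its derived subgroup is central). -/
theorem result {G : Type*} [Group G] [Finite G] [IsSimpleGroup G]
    (hG : ¬ IsMulCommutative G)
    (hA : ∀ S T : Sylow 2 G, S ≠ T → IsMulCommutative ↥((S : Subgroup G) ⊓ (T : Subgroup G))) (S : Sylow 2 G) :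
    (∃ m : ℕ, 2 ≤ m ∧ Nonempty (↥(S : Subgroup G) ≃* DihedralGroup m)) ∨
      commutator ↥(S : Subgroup G) ≤ Subgroup.center ↥(S : Subgroup G) := by
  refine (Lib.AbInt.main hG (Lib.AbInt.ai_of_sylow hA) (.of_sylow_top S)).imp_right fun h => ?_
  rw [← Subgroup.map_le_map_iff_of_injective (S : Subgroup G).subtype_injective, Subgroup.map_subtype_commutator,
    Lib.map_subtype_center]
  exact le_inf (Subgroup.commutator_le_self _) h

end Cfsg.Agent.S3186
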