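import Cfsg.Statements.S3192
import Cfsg.Agent.Lib.Ito.Rank3
import Cfsg.Agent.Lib.Ito.SL2Even

set_option autoImplicit false
open Cfsg

namespace Cfsg.Agent.S3192

/-- Simple groups of conjugate type rank three. For a finite group G consider the set of indices of the centralizers of the non-central elements of G. Then G is a non-abelian simple group for which this set has exactly three members if and only if G is isomorphic to PSL(2, 2^m) for some m ≥ 2. -/
theorem result (G : Type*) [Group G] [Finite G] :
    (IsSimpleGroup G ∧ ¬ IsMulCommutative G ∧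
        Set.ncard {m : ℕ | ∃ x : G, x ∉ Subgroup.center G ∧ m = (Subgroup.centralizer ({x} : Set G)).index} = 3) ↔
      ∃ (m : ℕ) (F : Type) (_ : Field F) (_ : Fintype F), 2 ≤ m ∧ Fintype.card F = 2 ^ m ∧
        Nonempty (G ≃* Matrix.ProjectiveSpecialLinearGroup (Fin 2) F) := by
  constructor
  · rintro ⟨_, hG, h⟩
    obtain ⟨n, hn, F, i1, i2, h1, h2⟩ := Lib.Ito.rank3 hG h
    exact ⟨n, F, i1, i2, hn, h1, h2⟩
  · rintro ⟨m, F, _, _, hm, hF, ⟨e⟩⟩
    have h4 : 4 ≤ Nat.card F := by
      rw [Nat.card_eq_fintype_card, hF]; exact Nat.pow_le_pow_right two_pos hm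
    have h2 : (2 : F) = 0 := by
      have := FiniteField.cast_card_eq_zero F
      rw [hF] at this
      push_cast at this
      exact pow_eq_zero_iff (by omega) |>.1 this
    haveI := Matrix.ProjectiveSpecialLinearGroup.rank_two_simple h4
    refine ⟨e.isSimpleGroup, fun h => Lib.pg_psl2_not_comm h4 ⟨⟨fun a b => e.symm.injective (by
      rw [map_mul, map_mul, h.1.1])⟩⟩, ?_⟩
    rw [Lib.Ito.ncard_congr (e.trans ((QuotientGroup.quotientMulEquivOfEq
      (Lib.Ito.center_sl_even h2)).trans QuotientGroup.quotientBot))]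
    exact Lib.Ito.ncard_sl_even h2 h4

end Cfsg.Agent.S3192
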