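import Cfsg.Statements.S3199
import Cfsg.Agent.Lib.J2.Cent
import Cfsg.Agent.Lib.J2.Fusion

set_option autoImplicit false
open Cfsg

namespace Cfsg.Agent.S3199

open Subgroup Cfsg.Lib Cfsg.Lib.FT Cfsg.Lib.JJ

/-- Let G be a finite group with no normal subgroup of index 2 whose Sylow 2-subgroups are isomorphic to those of the Hall–Janko group J₂, and let z be an involution central in a Sylow 2-subgroup of G. Then the centralizer of z modulo its largest normal subgroup of odd order is isomorphic to the centralizer of a 2-central involution in J₂ or to the centralizer of a 2-central involution in the third Janko group J₃. -/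
theorem result {G : Type*} [Group G] [Finite G]
    (S : Sylow 2 G) (P : Sylow 2 Cfsg.Spor.J2) (hS : Nonempty (↥(S : Subgroup G) ≃* ↥(P : Subgroup Cfsg.Spor.J2)))
    (h2 : ∀ H : Subgroup G, H.Normal → H.index ≠ 2)
    (z : G) (hz : orderOf z = 2) (hzS : z ∈ (S : Subgroup G)) (hzc : ∀ s ∈ (S : Subgroup G), s * z = z * s) :
    (∃ (z' : Cfsg.Spor.J2) (Q : Sylow 2 Cfsg.Spor.J2), orderOf z' = 2 ∧ z' ∈ (Q : Subgroup Cfsg.Spor.J2) ∧
        (∀ s ∈ (Q : Subgroup Cfsg.Spor.J2), s * z' = z' * s) ∧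
        Nonempty ((↥(Subgroup.centralizer ({z} : Set G)) ⧸ Cfsg.oddCore ↥(Subgroup.centralizer ({z} : Set G))) ≃*
          ↥(Subgroup.centralizer ({z'} : Set Cfsg.Spor.J2)))) ∨
      (∃ (F : Type) (_ : Field F) (_ : Fintype F) (ω : F), Fintype.card F = 4 ∧ ω ^ 2 + ω + 1 = 0 ∧
        ∃ (z' : Cfsg.Spor.J3 F ω) (Q : Sylow 2 (Cfsg.Spor.J3 F ω)), orderOf z' = 2 ∧ z' ∈ (Q : Subgroup (Cfsg.Spor.J3 F ω)) ∧
          (∀ s ∈ (Q : Subgroup (Cfsg.Spor.J3 F ω)), s * z' = z' * s) ∧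
          Nonempty ((↥(Subgroup.centralizer ({z} : Set G)) ⧸ Cfsg.oddCore ↥(Subgroup.centralizer ({z} : Set G))) ≃*
            ↥(Subgroup.centralizer ({z'} : Set (Cfsg.Spor.J3 F ω))))) := by
  obtain ⟨eS⟩ := hS
  obtain ⟨x, z', hz', hc⟩ := exists_cl
  obtain ⟨ι0, i0, s0, e0⟩ := exists_sylEmb hc
  let ι1 := C1[z0].subtype.comp ι0
  have i1 : Function.Injective ι1 := Subtype.val_injective.comp i0
  have e1 : ι1 zt = z0 := (congrArg Subtype.val e0).trans hz'
  have cen : ∀ {Y : Type _} [Group Y] {ι : M7 →* Y} {y : Y}, Function.Injective ι → y ∈ ι.range → y ≠ 1 →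
      (∀ s ∈ ι.range, s * y = y * s) → y = ι zt := by
    rintro Y _ ι _ hι ⟨m, rfl⟩ h1 h3
    exact congrArg ι ((fZ m fun k => hι (by simpa using (h3 _ ⟨xt k, rfl⟩).symm)).resolve_left
      fun e => h1 (by rw [e, map_one]))
  have o1 : orderOf z0 = 2 := by
    rw [← e1, orderOf_injective ι1 i1, h9_orderOf_eq_two_iff]; decide
  have c1 : ι1.range ≤ C1[z0] := by rintro _ ⟨m, rfl⟩; exact (ι0 m).2
  have s1 : IsSylowIn 2 ι1.range ⊤ := isSylowIn_top_of_normalizer_le (M := C1[z0]) (by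
    have := s0.map C1[z0].subtype
    rwa [MonoidHom.map_range, ← MonoidHom.range_eq_map, range_subtype] at this) fun n hn => by
      rw [mem_C1, ← mul_inv_eq_iff_eq_mul]
      refine (cen i1 ((mem_normalizer_iff.1 hn _).1 ⟨zt, e1⟩) (by
        simpa using (h9_orderOf_eq_two_iff.1 o1).1) fun s hs => ?_).trans e1
      have := mem_C1.1 (c1 ((mem_normalizer_iff.1 (inv_mem hn) s).1 hs))
      calc s * (n * z0 * n⁻¹) = n * (n⁻¹ * s * n⁻¹⁻¹ * z0) * n⁻¹ := by group
        _ = _ := by rw [this]; group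
  obtain ⟨Q, hQ⟩ := s1.exists_sylow_top
  let e : M7 ≃* S := ((MonoidHom.ofInjective i1).trans (MulEquiv.subgroupCongr hQ.symm)).trans
    ((Sylow.equiv Q P).trans eS.symm)
  let ι : M7 →* G := (S : Subgroup G).subtype.comp e.toMonoidHom
  have hι : Function.Injective ι := Subtype.val_injective.comp e.injective
  have hr : ι.range = S := by
    rw [MonoidHom.range_comp, MonoidHom.range_eq_top.2 e.surjective, ← MonoidHom.range_eq_map, range_subtype]
  have s2 : IsSylowIn 2 ι.range ⊤ := hr ▸ .of_sylow_top S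
  obtain rfl : z = ι zt := by
    obtain ⟨m, rfl⟩ := hr.ge hzS
    exact congrArg ι ((fZ m fun k => hι (by simpa using (hzc _ (hr.le ⟨xt k, rfl⟩)).symm)).resolve_left
      fun e => (h9_orderOf_eq_two_iff.1 hz).1 (by rw [e, map_one]))
  obtain ⟨g, hg, h3⟩ := exists_fuse hι s2 fun N h => h2 N (normal_of_index_eq_two h) h
  let ι2 : M7 →* C1[ι zt] := ι.codRestrict _ fun m => mem_C1.2 (hzc _ (hr.le ⟨m, rfl⟩))
  have s3 : IsSylowIn 2 ι2.range ⊤ := by
    convert sc_syl_top (s2.mono (L := C1[ι zt]) (by rintro _ ⟨m, rfl⟩; exact (ι2 m).2) le_top)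
    ext y
    exact exists_congr fun m => Subtype.ext_iff
  let π := QuotientGroup.mk' (oddCore C1[ι zt])
  have πs := QuotientGroup.mk'_surjective (oddCore C1[ι zt])
  obtain ⟨f, -⟩ := (cl_of (ι := π.comp ι2) (g := π ⟨g, hg⟩) ((injective_iff_map_eq_one _).2 fun m hm => by
      have h4 := (oddCore C1[ι zt]).orderOf_dvd_natCard ((QuotientGroup.eq_one_iff _).1 hm)
      have h5 := orderOf_dvd_natCard m
      rw [orderOf_injective ι2 fun a b e => hι (Subtype.ext_iff.1 e :)] at h4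
      rw [card_M7] at h5
      exact orderOf_eq_one_iff.1 (Nat.eq_one_of_dvd_coprimes (Nat.Coprime.pow_right 7
        (Nat.coprime_two_right.2 odd_card_oddCore)) h4 h5))
    (by rw [MonoidHom.range_comp, ← map_top_of_surjective π πs]; exact s3.map π)
    (fun y => by
      obtain ⟨y, rfl⟩ := πs y
      exact congrArg π (Subtype.ext (mem_C1.1 y.2) : y * ι2 zt = ι2 zt * y)) pPrimeCore_quotient_pPrimeCore
    (h3.imp (fun e => congrArg π (Subtype.ext e : ⟨g, hg⟩ * ι2 (xt 0) * ⟨g, hg⟩⁻¹ = ι2 (xt 4)))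
      fun e => congrArg π (Subtype.ext e : ⟨g, hg⟩ * ι2 (xt 0) * ⟨g, hg⟩⁻¹ = ι2 zt * ι2 (xt 4)))).equiv
  obtain ⟨f', -⟩ := hc.equiv
  exact .inl ⟨z0, Q, o1, hQ.ge ⟨zt, e1⟩, fun s hs => mem_C1.1 (c1 (hQ.le hs)), ⟨f.symm.trans f'⟩⟩

end Cfsg.Agent.S3199
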