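import Cfsg.Statements.S3219
import Cfsg.Agent.Lib.TwoPt.Main

set_option autoImplicit false
open Cfsg

namespace Cfsg.Agent.S3219

/-- Let G be a finite doubly transitive permutation group on a set Ω in which the stabilizer of two points is isomorphic to the alternating group A₄. Then Ω has 6 points and G ≅ A₆, or Ω has 15 points and G ≅ A₇, or Ω has 16 points and G is isomorphic to the group of all affine transformations of the affine plane over the field with 4 elements, or G = C_G(J)O(G) for some involution J of G, where O(G) is the largest normal subgroup of G of odd order. -/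
theorem result {G : Type*} [Group G] [Finite G] {Ω : Type*} [Fintype Ω] [MulAction G Ω] [FaithfulSMul G Ω]
    (h2 : MulAction.IsMultiplyPretransitive G Ω 2) (a b : Ω) (hab : a ≠ b)
    (e : ↥(MulAction.stabilizer G a ⊓ MulAction.stabilizer G b) ≃* ↥(alternatingGroup (Fin 4))) :
    (Fintype.card Ω = 6 ∧ Nonempty (G ≃* ↥(alternatingGroup (Fin 6)))) ∨ (Fintype.card Ω = 15 ∧ Nonempty (G ≃* ↥(alternatingGroup (Fin 7)))) ∨
      (Fintype.card Ω = 16 ∧ ∃ (F : Type) (_ : Field F) (_ : Fintype F), Fintype.card F = 4 ∧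
        Nonempty (G ≃* ((Fin 2 → F) ≃ᵃ[F] (Fin 2 → F)))) ∨
      (∃ J : G, orderOf J = 2 ∧ Subgroup.centralizer ({J} : Set G) ⊔ Cfsg.oddCore G = ⊤) := by
  obtain ⟨τ, v, ρ, d⟩ := Lib.TP.dat4
  obtain ⟨τ, v, ρ, h, rig⟩ := Lib.TP.exists_hyp h2 hab e d
  have hk : Nat.card (Lib.TP.st G a b) = 3 * 4 := (Nat.card_congr e.toEquiv).trans Lib.TP.card_A4
  rw [← Nat.card_eq_fintype_card]
  rcases h.exists_case with ⟨t, s⟩ | ⟨c, s⟩ <;> rcases Nat.mod_two_eq_zero_or_one (Nat.card Ω) with hn | hn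
  · exact Or.inl (h.evenA4 s hn hk)
  · exact Or.inr (Or.inl (h.oddA4 s hn hk))
  · obtain ⟨-, h1, h2, h3, h4⟩ := h.evenE s (rig c s) hn hk (Or.inl rfl)
    exact Or.inr (Or.inr (Or.inl ⟨h1, Lib.PC.F4, inferInstance, inferInstance, Lib.PC.card_F4,
      h.aglE s (rig c s) hk h1 h2 h3 h4⟩))
  · exact Or.inr (Or.inr (Or.inr ⟨c, h.c_ord s, Lib.pg_centralizer_sup_of_isIsolated s.cc
      (h.isolated s (rig c s) hn (h.not_conj_c s hn))⟩))

end Cfsg.Agent.S3219
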