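import Cfsg.Statements.S3222
import Mathlib
import Cfsg.Agent.Lib.BSW.S4x2

set_option autoImplicit false
open Cfsg

namespace Cfsg.Agent.S3222

/-- Let G be a finite group of even order such that (1) some involution t lying in the centre of a Sylow 2-subgroup of G has C_G(t) ≅ Z₂ × S₄, and (2) every Sylow 2-subgroup S of G satisfies C_G(S′) = S, where S′ is the derived subgroup of S. Then G = C_G(t) if G is solvable, and G ≅ S₆ otherwise. -/
theorem result {G : Type*} [Group G] [Finite G] (hev : Even (Nat.card G))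
    (t : G) (ht : orderOf t = 2) (T : Sylow 2 G) (htT : t ∈ (T : Subgroup G)) (htc : ∀ s ∈ (T : Subgroup G), s * t = t * s)
    (e : ↥(Subgroup.centralizer ({t} : Set G)) ≃* (Multiplicative (ZMod 2) × Equiv.Perm (Fin 4)))
    (h2 : ∀ S : Sylow 2 G, Subgroup.centralizer ((⁅(S : Subgroup G), (S : Subgroup G)⁆ : Subgroup G) : Set G) = (S : Subgroup G)) :
    (Group.IsSolvable G → Subgroup.centralizer ({t} : Set G) = ⊤) ∧
      (¬ Group.IsSolvable G → Nonempty (G ≃* Equiv.Perm (Fin 6))) := by
  open Cfsg.Lib.BSW in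
  let φ : X48 →* G := (Subgroup.centralizer ({t} : Set G)).subtype.comp e.symm.toMonoidHom
  have hinj : Function.Injective φ := (Subgroup.subtype_injective _).comp e.symm.injective
  have htC : t ∈ Subgroup.centralizer ({t} : Set G) := Subgroup.mem_centralizer_singleton_iff.2 rfl
  have hrange : φ.range = Subgroup.centralizer ({t} : Set G) := by
    ext g
    exact ⟨fun ⟨u, hu⟩ => hu ▸ (e.symm u).2, fun hg => ⟨e ⟨g, hg⟩, by simp [φ]⟩⟩
  have hc : φ X48.c = t := by
    rcases X48.central (e ⟨t, htC⟩) (fun v => by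
      obtain ⟨v, rfl⟩ := e.surjective v
      rw [← map_mul, ← map_mul]
      congr 1
      exact Subtype.ext (Subgroup.mem_centralizer_singleton_iff.1 v.2)) with h | h
    · rw [map_eq_one_iff _ e.injective] at h
      exact absurd (congrArg Subtype.val h) (ne_one_of_orderOf_two ht)
    · rw [← h]; simp [φ]
  have hcard : Nat.card (Subgroup.centralizer ({t} : Set G)) = 48 := by
    rw [Nat.card_congr e.toEquiv, X48.card]
  have hsyl : ¬ 32 ∣ Nat.card G := by
    intro h
    have h1 : Nat.card (T : Subgroup G) ∣ 48 := hcard ▸ Subgroup.card_dvd_of_le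
      (fun s hs => Subgroup.mem_centralizer_singleton_iff.2 (htc s hs))
    have h3 : 2 ^ 5 ∣ Nat.card (T : Subgroup G) := T.pow_dvd_card_of_pow_dvd_card h
    have := h3.trans h1
    norm_num at this
  let S₀ := (Subgroup.centralizer ({X48.z} : Set X48)).map φ
  have hS₀ : Nat.card S₀ = 16 := by rw [Subgroup.card_map_of_injective hinj, X48.card_cent]
  obtain ⟨S, hS⟩ := (IsPGroup.of_card (p := 2) (n := 4) hS₀).exists_le_sylow
  have hS' : S₀ = S := by
    refine Subgroup.eq_of_le_of_card_ge hS ?_
    obtain ⟨n, hn⟩ := IsPGroup.iff_card.1 S.isPGroup'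
    rw [hS₀, hn, show 16 = 2 ^ 4 from rfl]
    refine Nat.pow_le_pow_right two_pos ?_
    by_contra hc
    exact hsyl ((pow_dvd_pow 2 (show 5 ≤ n by omega)).trans
      (hn ▸ Subgroup.card_subgroup_dvd_card _))
  have H : X48Hyp φ := by
    refine ⟨hinj, fun g hg => ?_, fun g hg => ?_, hsyl⟩
    · rw [hrange, Subgroup.mem_centralizer_singleton_iff, ← hc]; exact hg
    · have h3 : g ∈ S₀ := by
        rw [hS', ← h2 S, ← hS']
        refine Subgroup.centralizer_le (t := (Subgroup.zpowers (φ X48.z) : Set G)) (SetLike.coe_subset_coe.2 ?_) ?_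
        · refine Subgroup.commutator_le.2 ?_
          rintro _ ⟨u, hu, rfl⟩ _ ⟨v, hv, rfl⟩
          rw [← map_commutatorElement, commutatorElement_def]
          rcases X48.comm u v (Subgroup.mem_centralizer_singleton_iff.1 hu)
            (Subgroup.mem_centralizer_singleton_iff.1 hv) with h | h <;> rw [h]
          · simp
          · exact Subgroup.mem_zpowers _
        · rw [Cfsg.Lib.sm_centralizer_zpowers]
          exact Subgroup.mem_centralizer_singleton_iff.2 hg
      exact Subgroup.map_le_range _ _ h3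
  rcases H.main with h | ⟨⟨f⟩⟩
  · rw [hc] at h
    refine ⟨fun _ => h, fun hn => absurd ?_ hn⟩
    have h5 : Group.IsSolvable X48 := Cfsg.Lib.burnside_solvable_of_card_dvd (p := 2) (q := 3) (a := 4) (b := 1)
      Nat.prime_two Nat.prime_three (by rw [X48.card]; norm_num)
    exact Group.isSolvable_of_surjective (f := φ) (by rw [← MonoidHom.range_eq_top, hrange, h])
  · refine ⟨fun hs => absurd ?_ (Equiv.Perm.not_isSolvable (Fin 6) (by simp; norm_num)), fun _ => ⟨f⟩⟩
    exact Group.isSolvable_of_surjective (f := f.toMonoidHom) f.surjective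

end Cfsg.Agent.S3222
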