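import Cfsg.Statements.S3237
import Cfsg.Agent.Lib.L34.X5
import Cfsg.Agent.Lib.SC.Solv
import Cfsg.Agent.Lib.ZStar.Main
import Cfsg.Agent.Lib.Char.Burnside

set_option autoImplicit false
open Cfsg

namespace Cfsg.Agent.S3237

open Subgroup Cfsg.Lib Cfsg.Lib.FT Cfsg.Lib.L34

/-- Let G be a finite group of even order with an involution z, H = C_G(z), such that H has a normal subgroup E of order 32 that is extraspecial and contains no elementary abelian subgroup of order 8 (the central product of a dihedral group of order 8 with a quaternion group), C_H(E) ≤ E, and H/E ≅ S₄. Then O(G) is abelian, and if G is not solvable then G is isomorphic to the automorphism group of PGL₃(4). -/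
theorem result {G : Type*} [Group G] [Finite G]
    (hev : Even (Nat.card G)) (z : G) (hz : orderOf z = 2)
    (E : Subgroup ↥(Subgroup.centralizer ({z} : Set G))) [hEn : E.Normal] (hE : Cfsg.IsExtraspecial 2 ↥E) (hE32 : Nat.card ↥E = 32)
    (hEminus : ∀ A : Subgroup ↥E, Cfsg.IsElementaryAbelian 2 A → Nat.card ↥A ≠ 8)
    (hCE : Subgroup.centralizer (E : Set ↥(Subgroup.centralizer ({z} : Set G))) ≤ E)
    (e : (↥(Subgroup.centralizer ({z} : Set G)) ⧸ E) ≃* Equiv.Perm (Fin 4)) {F : Type*} [Field F] [Fintype F] (hF : Fintype.card F = 4) :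
    IsMulCommutative ↥(Cfsg.oddCore G) ∧
      (¬ Group.IsSolvable G → Nonempty (G ≃* MulAut (GL (Fin 3) F ⧸ Subgroup.center (GL (Fin 3) F)))) := by
  let z' : centralizer ({z} : Set G) := ⟨z, mem_centralizer_singleton_iff.2 rfl⟩
  have cz : ∀ g, g * z' = z' * g := fun g => Subtype.ext (mem_centralizer_singleton_iff.1 g.2)
  have h1 : z' ≠ 1 := fun h => by
    rw [show z = 1 from congrArg Subtype.val h, orderOf_one] at hz; omega
  have hx := XS.of_isExtraspecial' hE (hCE fun g _ => cz g) h1 fun g _ => cz g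
  obtain ⟨P, hP⟩ := exists_sp hx cz hE32 (noE8 hx hEminus) hCE e
  have e1 : (centralizer ({z} : Set G)).subtype P.z = z := by rw [hP]; rfl
  have h : P.In (centralizer ({z} : Set G)).subtype :=
    ⟨subtype_injective _, fun y hy => ⟨⟨y, mem_centralizer_singleton_iff.2 (by rwa [e1] at hy)⟩, rfl⟩⟩
  refine ⟨⟨⟨fun a b => Subtype.ext (BSW.comm_of_inverts (fun a ha => h.inverts ha) a.2 b.2)⟩⟩,
    fun hns => ?_⟩
  have z2 : z ^ 2 = 1 := hz ▸ pow_orderOf_eq_one z
  by_cases hi : IsIsolated z
  · refine (hns (sc_solv_of_zstar z2 (zstar z2 hi) (burnside_solvable_of_card_dvd (a := 8) (b := 1)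
      Nat.prime_two Nat.prime_three ?_))).elim
    rw [card_eq_card_quotient_mul_card_subgroup E, hE32, Nat.card_congr e.toEquiv, Nat.card_perm,
      Nat.card_eq_fintype_card, Fintype.card_fin]
    decide
  simp only [IsIsolated, not_forall] at hi
  obtain ⟨g, h2, h3⟩ := hi
  exact h.main (g := g) (t := ⟨_, mem_centralizer_singleton_iff.2 h2.eq.symm⟩)
    (Nat.card_eq_fintype_card.trans hF) hns (by rw [e1]; rfl) fun h4 => h3 (by
      rw [hP] at h4; exact congrArg Subtype.val h4)

end Cfsg.Agent.S3237
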