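import Cfsg.Statements.S3243
import Cfsg.Agent.Lib.Six.L33
import Cfsg.Agent.Lib.Six.Abel
import Cfsg.Agent.Lib.OrderChar.M11
import Cfsg.Agent.Lib.Golay.Mathieu

set_option autoImplicit false
open Cfsg

namespace Cfsg.Agent.S3243

/-- Let G be a finite non-abelian simple group with a single conjugacy class of involutions containing an element t of order 6 with C_G(t) = ⟨t⟩. Then G is isomorphic to L₂(11), L₂(13), L₃(3), the Mathieu group M₁₁, or the Janko group J₁. -/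
theorem result {G : Type*} [Group G] [Finite G] [IsSimpleGroup G]
    (hG : ¬ IsMulCommutative G) (h1 : ∀ x y : G, orderOf x = 2 → orderOf y = 2 → IsConj x y)
    (t : G) (ht : orderOf t = 6) (hC : Subgroup.centralizer ({t} : Set G) = Subgroup.zpowers t) :
    (∃ (F : Type) (_ : Field F) (_ : Fintype F), (Fintype.card F = 11 ∨ Fintype.card F = 13) ∧
        Nonempty (G ≃* Matrix.ProjectiveSpecialLinearGroup (Fin 2) F)) ∨
      (∃ (F : Type) (_ : Field F) (_ : Fintype F), Fintype.card F = 3 ∧ Nonempty (G ≃* Matrix.ProjectiveSpecialLinearGroup (Fin 3) F)) ∨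
      Cfsg.Spor.IsoM11 G ∨ Cfsg.Spor.IsoJ1 G := by
  have h := Lib.Six.Hyp.of h1 ht hC
  by_cases hA : ∃ S : Subgroup G, Lib.IsSylowIn 2 S ⊤ ∧ IsMulCommutative S
  · obtain ⟨S, hS, hc⟩ := hA
    rcases Lib.Six.abel hG h ht hC hS hc with ⟨F, i, j, e, k⟩ | ⟨F, i, j, e, k⟩ | k
    exacts [Or.inl ⟨F, i, j, Or.inl e, k⟩, Or.inl ⟨F, i, j, Or.inr e, k⟩, Or.inr (Or.inr (Or.inr k))]
  have hz : orderOf (t ^ 3) = 2 := by rw [orderOf_pow' _ (by norm_num), ht]; rfl
  rcases h.dich hG hz with ⟨y, S, c⟩ | ⟨y, b, O, c⟩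
  · exact absurd ⟨S, c.syl, c.comm' hG h⟩ hA
  have hu := (c.uniq hG h).resolve_left fun e => hA ⟨_, c.syl h, e⟩
  obtain ⟨π, g, h8⟩ := (c.gc hG h hu).resolve_left fun e => hA ⟨_, c.syl h, e⟩
  obtain ⟨hi, e | e⟩ := c.core_bot (Lib.sm_commutator_eq_top hG) h hu g h8
  · exact Or.inr (Or.inr (Or.inl (by
      unfold Spor.IsoM11; rw [Lib.Golay.M11_eq]; exact Lib.OC.M11.equiv e)))
  · obtain ⟨φ, k⟩ := g.lc hi
    exact Or.inr (Or.inl ⟨ZMod 3, inferInstance, inferInstance, rfl, k.iso e⟩)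

end Cfsg.Agent.S3243
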