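import Cfsg.Statements.S3257
import Mathlib
import Cfsg.Agent.Lib.FS.Start

set_option autoImplicit false
open Cfsg

namespace Cfsg.Agent.S3257

open Subgroup Cfsg.Lib

/-- Let p be an odd prime and G a finite non-abelian group generated by a G-invariant set D of subgroups of order p such that any two distinct members of D generate a subgroup isomorphic to one fixed group of odd order. Then G/Z(G) is a Frobenius group of odd order. -/
theorem result {G : Type*} [Group G] [Finite G] (hG : ¬ IsMulCommutative G)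
    (p : ℕ) (hp : p.Prime) (hp2 : p ≠ 2) (D : Set (Subgroup G)) (hDp : ∀ A ∈ D, Nat.card ↥A = p)
    (hDinv : ∀ A ∈ D, ∀ g : G, A.map (MulAut.conj g).toMonoidHom ∈ D) (hDgen : sSup D = ⊤)
    {F : Type*} [Group F] [Finite F] (hF : Odd (Nat.card F)) (hpair : ∀ A ∈ D, ∀ B ∈ D, A ≠ B → Nonempty (↥(A ⊔ B) ≃* F)) :
    Odd (Nat.card (G ⧸ Subgroup.center G)) ∧ ∃ H : Subgroup (G ⧸ Subgroup.center G), Cfsg.IsFrobeniusComplement H := by
  refine Cfsg.Lib.FSet.Hy.main (p := p) (D := D) ⟨hp, hp2, hDp, hDinv, Cfsg.Lib.FSet.gen_top hDgen, hG,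
    fun A hA B hB hne => ?_, fun A hA B hB hne A' hA' B' hB' hne' => ?_⟩
  · obtain ⟨e⟩ := hpair A hA B hB hne
    rwa [Nat.card_congr e.toEquiv]
  · obtain ⟨e⟩ := hpair A hA B hB hne
    obtain ⟨e'⟩ := hpair A' hA' B' hB' hne'
    exact ⟨e.trans e'.symm⟩

end Cfsg.Agent.S3257
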