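import Cfsg.Statements.S3259
import Cfsg.Agent.Lib.Div.Main

set_option autoImplicit false
open Cfsg

namespace Cfsg.Agent.S3259

/-- Let D be a division ring of characteristic 0, G a finite subgroup of the group of invertible 2 × 2 matrices over D, and N a normal subgroup of G such that G/N is a non-abelian simple group S. Then S is isomorphic to PSL₂(5) or PSL₂(9), and N ≠ 1. -/
theorem result
    {D : Type*} [DivisionRing D] [CharZero D] (G : Subgroup (Matrix (Fin 2) (Fin 2) D)ˣ) [Finite ↥G]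
    (N : Subgroup ↥G) [hN : N.Normal] (hS : IsSimpleGroup (↥G ⧸ N)) (hna : ¬ IsMulCommutative (↥G ⧸ N)) :
    (∃ (F : Type) (_ : Field F) (_ : Fintype F), (Fintype.card F = 5 ∨ Fintype.card F = 9) ∧
        Nonempty ((↥G ⧸ N) ≃* Matrix.ProjectiveSpecialLinearGroup (Fin 2) F)) ∧ N ≠ ⊥ := by
  obtain ⟨h1, h2⟩ := Cfsg.Lib.Div.gl2 G.subtype G.subtype_injective (QuotientGroup.mk' N) hna
    (QuotientGroup.mk'_surjective N)
  rw [QuotientGroup.ker_mk'] at h2
  refine ⟨?_, h2⟩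
  rcases h1 with ⟨F, i1, i2, c, e⟩ | ⟨F, i1, i2, c, e⟩
  exacts [⟨F, i1, i2, .inl c, e⟩, ⟨F, i1, i2, .inr c, e⟩]

end Cfsg.Agent.S3259
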