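import Cfsg.Statements.S3262
import Cfsg.Agent.Lib.TwoPt.Main

set_option autoImplicit false
open Cfsg

namespace Cfsg.Agent.S3262

/-- Let G be a finite doubly transitive permutation group on a set Ω with no regular normal subgroup, in which the stabilizer of two points is isomorphic to the alternating group A₅. Then either Ω has 7 points and G ≅ A₇, or Ω has 12 points and G is isomorphic to the Mathieu group M₁₁. -/
theorem result {G : Type*} [Group G] [Finite G] {Ω : Type*} [Fintype Ω] [MulAction G Ω] [FaithfulSMul G Ω]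
    (h2 : MulAction.IsMultiplyPretransitive G Ω 2) (a b : Ω) (hab : a ≠ b)
    (hnr : ∀ N : Subgroup G, N.Normal → MulAction.IsPretransitive ↥N Ω → (∀ x : Ω, MulAction.stabilizer ↥N x = ⊥) → False)
    (e : ↥(MulAction.stabilizer G a ⊓ MulAction.stabilizer G b) ≃* ↥(alternatingGroup (Fin 5))) :
    (Fintype.card Ω = 7 ∧ Nonempty (G ≃* ↥(alternatingGroup (Fin 7)))) ∨ (Fintype.card Ω = 12 ∧ Cfsg.Spor.IsoM11 G) := by
  obtain ⟨τ, v, ρ, d⟩ := Lib.TP.dat5
  obtain ⟨τ, v, ρ, h, rig⟩ := Lib.TP.exists_hyp h2 hab e d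
  have hk : Nat.card (Lib.TP.st G a b) = 15 * 4 := (Nat.card_congr e.toEquiv).trans Lib.TP.card_A5
  have hO := h.core_bot hnr
  rw [← Nat.card_eq_fintype_card]
  rcases h.exists_case with ⟨t, s⟩ | ⟨c, s⟩ <;> rcases Nat.mod_two_eq_zero_or_one (Nat.card Ω) with hn | hn
  · have h1 := h.evenA5 s hn hk
    have := e.isSimpleGroup
    have := h.simple12 s h1 hk
    exact Or.inr ⟨h1, by
      rw [Spor.IsoM11, Lib.Golay.M11_eq]
      exact Lib.OC.M11.equiv (by rw [h.card_G, h.card_Ga, h1, hk])⟩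
  · obtain ⟨e'⟩ := h.a7S s hn hO
    have := h.card_A7 e'
    rw [hk] at this
    refine Or.inl ⟨?_, ⟨e'⟩⟩
    generalize Nat.card Ω = n at *
    have : n ≤ 7 := by
      by_contra hc
      have := Nat.mul_le_mul (show 8 ≤ n by omega) (show 7 ≤ n - 1 by omega)
      nlinarith
    interval_cases n <;> omega
  · exact absurd (h.evenE s (rig c s) hn hk (Or.inr rfl)).1 (by norm_num)
  · exfalso
    have hz := Subgroup.mem_center_iff.1 (Lib.zstar_center hO (by rw [sq, s.cc])
      (h.isolated s (rig c s) hn (h.not_conj_c s hn)))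
    obtain ⟨x, -, hx⟩ := Lib.TP.exists_fix (Lib.GW.isPGroup_zpowers_two s.cc) (F := (Set.univ : Set Ω))
      (fun _ _ _ _ => trivial) (by rw [Set.ncard_univ]; omega)
    obtain ⟨g, -, rfl⟩ := h.t2.tr1 (x := x) trivial
    have := hx c (Subgroup.mem_zpowers c)
    rw [← mul_smul, ← hz, mul_smul, smul_left_cancel_iff, s.sw.1] at this
    exact hab this.symm

end Cfsg.Agent.S3262
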