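import Cfsg.Statements.S3266
import Cfsg.Agent.Lib.Misc.OddGraph
import Cfsg.Agent.Lib.Misc.SL2Odd
import Cfsg.Agent.Lib.Ito.SL2Even

set_option autoImplicit false
open Cfsg

namespace Cfsg.Agent.S3266

open Subgroup Cfsg.Lib Cfsg.Lib.GW.L2 Matrix
open scoped MatrixGroups

section

variable {F : Type*} [Field F]

local notation "π" => QuotientGroup.mk' (center SL(2, F))
local notation "M₂" => Matrix (Fin 2) (Fin 2) F

theorem cen_of {A : SL(2, F)} {c : F} (h : (A : M₂) = c • (1 : M₂)) : A ∈ center SL(2, F) :=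
  mem_center_iff.2 fun B => Subtype.ext (by simp [h])

theorem of_cen {A : SL(2, F)} (h : A ∈ center SL(2, F)) : ∃ c : F, (A : M₂) = c • (1 : M₂) := by
  obtain ⟨r, -, e⟩ := Matrix.SpecialLinearGroup.mem_center_iff.1 h
  exact ⟨r, by rw [← e, scalar_apply, smul_one_eq_diagonal]⟩

theorem odd_of {A : SL(2, F)} {m : ℕ} (hm : Odd m) {c : F} (h : (A : M₂) ^ m = c • (1 : M₂)) :
    Odd (orderOf (π A)) :=
  hm.of_dvd_nat (orderOf_dvd_of_pow_eq_one (by
    rw [← map_pow]; exact (QuotientGroup.eq_one_iff _).2 (cen_of (c := c) (by simpa using h))))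

theorem odd1 {A : SL(2, F)} {l : F} {m : ℕ} (hm : Odd m) (l0 : l ≠ 0) (l1 : l * l ≠ 1)
    (hl : l ^ m * l ^ m = 1) (h : trace (A : M₂) = l + l⁻¹) : Odd (orderOf (π A)) := by
  have c := cayley (A : M₂)
  rw [h, A.det_coe, one_smul] at c
  have k : ∀ u v : F, u * v = 1 → u + v = l + l⁻¹ → ∀ n : ℕ,
      (A : M₂) ^ n * (A - v • 1) = u ^ n • ((A : M₂) - v • 1) := fun u v h1 h2 n => by
    induction n with
    | zero => simp
    | succ n ih =>
      rw [pow_succ', mul_assoc, ih, mul_smul_comm, pow_succ, ← smul_smul, mul_sub, c, ← h2, smul_sub u,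
        smul_smul, h1]
      congr 1
      simp [add_smul]; abel
  have e1 := k l l⁻¹ (mul_inv_cancel₀ l0) rfl m
  have e2 := k l⁻¹ l (inv_mul_cancel₀ l0) (add_comm _ _) m
  rw [inv_pow, inv_eq_of_mul_eq_one_right hl] at e2
  have ne : l - l⁻¹ ≠ 0 := sub_ne_zero.2 fun e => l1 (by nth_rw 2 [e]; exact mul_inv_cancel₀ l0)
  refine odd_of hm (c := l ^ m) (smul_right_injective _ ne ?_)
  have : (A : M₂) ^ m * (A - l⁻¹ • 1) - (A : M₂) ^ m * (A - l • 1) = _ := congrArg₂ (· - ·) e1 e2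
  rw [← mul_sub, ← smul_sub, sub_sub_sub_cancel_left, ← sub_smul, mul_smul_comm, mul_one, smul_comm] at this
  exact this

theorem odd2 [Fintype F] (h2 : (2 : F) ≠ 0) {A : SL(2, F)} {e : F} (he : e * e = 1)
    (h : trace (A : M₂) = 2 * e) : Odd (orderOf (π A)) := by
  have c := cayley (A : M₂)
  rw [h, A.det_coe, one_smul] at c
  have k : ∀ n : ℕ, (A : M₂) ^ n = e ^ n • ((1 : M₂) + (n : F) • (e • (A : M₂) - 1)) := fun n => by
    induction n with
    | zero => simp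
    | succ n ih =>
      rw [pow_succ, ih, smul_mul_assoc, add_mul, smul_mul_assoc, sub_mul, smul_mul_assoc, c, one_mul]
      match_scalars
      · linear_combination e ^ n * (n - 1 : F) * he
      · ring
  refine odd_of (m := Fintype.card F) (Nat.odd_iff.2 (odd_card_of_two_ne h2)) (c := e ^ Fintype.card F) ?_
  rw [k, FiniteField.cast_card_eq_zero, zero_smul, add_zero]

theorem odd3 [Fintype F] (h2 : (2 : F) = 0) {A : SL(2, F)} (h : trace (A : M₂) ≠ 0) :
    Odd (orderOf (π A)) := by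
  refine Odd.of_dvd_nat ?_ (orderOf_map_dvd π A)
  by_contra he
  obtain ⟨k, hk⟩ := Nat.not_odd_iff_even.1 he
  have h0 := orderOf_pos A
  have h1 : A ^ k ≠ 1 := pow_ne_one_of_lt_orderOf (by omega) (by omega)
  have h3 : A ^ k * A ^ k = 1 := by rw [← pow_add, ← hk, pow_orderOf_eq_one]
  have ns := Ito.sl_not_scalar h2 h1
  have t0 := trace_of_sq (c := 1) (by simpa using congrArg Subtype.val h3) ns
  obtain ⟨a, b, e⟩ := (Ito.comm_iff (B := A) ns).1 (congrArg Subtype.val (Commute.self_pow A k).eq)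
  exact h (by rw [e, trace_add, trace_smul, trace_smul, t0, trace_one]; simp [h2])

theorem inv_of {A : SL(2, F)} (h : trace (A : M₂) = 0) : π A * π A = 1 := by
  rw [← map_mul]
  exact (QuotientGroup.eq_one_iff _).2 (cen_of (c := -det (A : M₂)) (mul_self_of_trace h))

theorem of_inv {x : ProjectiveSpecialLinearGroup (Fin 2) F} (h : orderOf x = 2) :
    ∃ A : SL(2, F), π A = x ∧ trace (A : M₂) = 0 ∧ A ∉ center SL(2, F) := by
  obtain ⟨A, rfl⟩ := QuotientGroup.mk'_surjective (center SL(2, F)) x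
  rw [h9_orderOf_eq_two_iff] at h
  have h1 : A ∉ center SL(2, F) := fun e => h.1 ((QuotientGroup.eq_one_iff _).2 e)
  obtain ⟨c, hc⟩ := of_cen ((QuotientGroup.eq_one_iff (A * A)).1 h.2)
  exact ⟨A, rfl, trace_of_sq hc fun c e => h1 (cen_of e), h1⟩

theorem avoid [Fintype F] (hF : 4 ≤ Fintype.card F) (a b c : F) : ∃ m, m ≠ a ∧ m ≠ b ∧ m ≠ c := by
  classical
  obtain ⟨m, -, hm⟩ := Finset.exists_mem_notMem_of_card_lt_card
    (lt_of_le_of_lt (Finset.card_le_three (a := a) (b := b) (c := c)) hF)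
  exact ⟨m, by simpa using hm⟩

/-- a point with non-zero first coordinate on a conic -/
theorem conic [Fintype F] (hF : 4 ≤ Fintype.card F) (h2 : (2 : F) ≠ 0) {b c : F} (hc : c ≠ 0)
    (hb : b * b - 1 ≠ 0) : ∃ μ w : F, μ ≠ 0 ∧ w ^ 2 = -c * (μ ^ 2 - 2 * b * μ + 1) := by
  obtain ⟨w, ν, h⟩ := exists_sq_add h2 hc (c * (b * b - 1))
  by_cases h0 : ν + b = 0
  · obtain rfl : ν = -b := by linear_combination h0
    obtain ⟨m, m1, m2, m3⟩ := avoid hF w (-w) (-b * w)
    have hw : w ^ 2 = -c := by linear_combination h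
    have w0 : w ≠ 0 := fun e => hc (by rw [e] at hw; linear_combination hw)
    have d : m ^ 2 + c ≠ 0 := fun e => mul_ne_zero (sub_ne_zero.2 m1) (sub_ne_zero.2 m2)
      (by linear_combination e - hw)
    refine ⟨(2 * b * c - 2 * w * m) / (m ^ 2 + c), w + m * ((2 * b * c - 2 * w * m) / (m ^ 2 + c)),
      div_ne_zero (fun e => mul_ne_zero (mul_ne_zero h2 w0) (sub_ne_zero.2 m3) ?_) d, ?_⟩
    · linear_combination -e + 2 * b * hw
    · obtain ⟨μ, hμ⟩ : ∃ μ, μ = (2 * b * c - 2 * w * m) / (m ^ 2 + c) := ⟨_, rfl⟩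
      rw [← hμ]
      rw [eq_div_iff d] at hμ
      linear_combination hw + μ * hμ
  · exact ⟨ν + b, w, h0, by linear_combination h⟩

theorem key3 [Fintype F] (hF : 4 ≤ Fintype.card F) (h2 : (2 : F) ≠ 0) (hn : ¬ IsSquare (-1 : F)) {b : F}
    (hb : ¬ IsSquare (b * b - 1)) : ∃ ε α γ l : F, ε * ε = 1 ∧ l ≠ 0 ∧ l * l ≠ 1 ∧
      2 * α ^ 2 * (1 + ε * b) + γ ^ 2 * (1 - b * b) = 1 ∧ 2 * α * (1 + ε * b) = l + l⁻¹ := by
  have b0 : b * b - 1 ≠ 0 := fun e => hb (e ▸ IsSquare.zero)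
  have b1 : 1 - b ≠ 0 := fun e => b0 (by linear_combination -(1 + b) * e)
  have b2 : 1 + b ≠ 0 := fun e => b0 (by linear_combination (b - 1) * e)
  have b3 : 1 - b * b ≠ 0 := fun e => b0 (by linear_combination -e)
  obtain ⟨r, hr⟩ := isSquare_mul_of_not' hn hb
  have r0 : r ≠ 0 := fun e => b0 (by rw [e] at hr; linear_combination -hr)
  obtain ⟨μ, w, μ0, hw⟩ := conic hF h2 (c := 2 * (1 - b)) (mul_ne_zero h2 b1) b0
  have ns : ∀ x y : F, x ≠ 0 → y ^ 2 ≠ -x ^ 2 := fun x y x0 e =>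
    hn ⟨y / x, by field_simp; linear_combination -e⟩
  have μ1 : μ ≠ 1 := fun e => ns (2 * (1 - b)) w (mul_ne_zero h2 b1) (by rw [hw, e]; ring)
  have μ2 : μ ≠ -1 := fun e => ns (2 * r) w (mul_ne_zero h2 r0) (by
    rw [hw, e]; linear_combination -4 * hr)
  by_cases hs : IsSquare μ
  · obtain ⟨l, rfl⟩ := hs
    have l0 : l ≠ 0 := left_ne_zero_of_mul μ0
    refine ⟨1, (l + l⁻¹) / (2 * (1 + b)), w / (2 * l * (1 - b * b)), l, one_mul 1, l0, μ1, ?_, ?_⟩
    · rw [show 1 - b * b = (1 - b) * (1 + b) by ring]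
      field_simp
      linear_combination hw
    · field_simp
  · obtain ⟨l, hl⟩ := isSquare_mul_of_not' hn hs
    have l0 : l ≠ 0 := fun e => μ0 (by rw [e] at hl; linear_combination -hl)
    obtain rfl : μ = -(l * l) := by linear_combination -hl
    refine ⟨-1, (l + l⁻¹) / (2 * (1 - b)), w / (2 * l * r * (1 - b)), l, by ring, l0,
      fun e => μ2 (by rw [e]), ?_, ?_⟩
    · rw [show 1 - b * b = r ^ 2 by linear_combination hr]
      field_simp
      linear_combination hw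
    · field_simp; ring

theorem build {X Y : SL(2, F)} (hX : trace (X : M₂) = 0) (hY : trace (Y : M₂) = 0)
    {b ε α γ : F} (hb : trace ((X * Y : SL(2, F)) : M₂) = -(2 * b)) (hε : ε * ε = 1)
    (h : 2 * α ^ 2 * (1 + ε * b) + γ ^ 2 * (1 - b * b) = 1) : ∃ Z : SL(2, F), trace (Z : M₂) = 0 ∧
      trace ((X * Z : SL(2, F)) : M₂) = -(2 * α * (1 + ε * b)) ∧
      trace ((Z * Y : SL(2, F)) : M₂) = -(ε * (2 * α * (1 + ε * b))) := by
  have dX := h9_sl2_det X
  have dY := h9_sl2_det Y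
  simp only [trace_fin_two, h9_sl2_mul_apply] at hX hY hb
  obtain ⟨x1, hx1⟩ : ∃ x1, x1 = X 0 0 := ⟨_, rfl⟩
  obtain ⟨y1, hy1⟩ : ∃ y1, y1 = Y 0 0 := ⟨_, rfl⟩
  have ex : X 1 1 = -x1 := by linear_combination hX + hx1
  have ey : Y 1 1 = -y1 := by linear_combination hY + hy1
  rw [ex, ← hx1] at dX hb
  rw [ey, ← hy1] at dY hb
  refine ⟨h9_mk (α * (x1 + ε * y1) + γ * (x1 * y1 + X 0 1 * Y 1 0 + b))
    (α * (X 0 1 + ε * Y 0 1) + γ * (x1 * Y 0 1 - X 0 1 * y1))
    (α * (X 1 0 + ε * Y 1 0) + γ * (X 1 0 * y1 - x1 * Y 1 0))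
    (-(α * (x1 + ε * y1) + γ * (x1 * y1 + X 0 1 * Y 1 0 + b))) ?_, ?_, ?_, ?_⟩
  · linear_combination (α ^ 2 + γ ^ 2 * (-y1 ^ 2 - Y 0 1 * Y 1 0)) * dX + (α ^ 2 * ε ^ 2 + γ ^ 2) * dY +
      α ^ 2 * hε - (α ^ 2 * ε + α * γ * (x1 + ε * y1) + γ ^ 2 * (x1 * y1 + X 0 1 * Y 1 0)) * hb + h
  · simp [trace_fin_two]
  · simp only [trace_fin_two, h9_sl2_mul_apply, h9_mk_00, h9_mk_01,
      h9_mk_10, h9_mk_11, ex, ← hx1]
    linear_combination -2 * α * dX + (α * ε + γ * x1) * hb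
  · simp only [trace_fin_two, h9_sl2_mul_apply, h9_mk_00, h9_mk_01,
      h9_mk_10, h9_mk_11, ey, ← hy1]
    linear_combination -2 * α * ε * dY + (α + γ * y1) * hb + 2 * α * b * hε

theorem odd4 [Fintype F] (hn : ¬ IsSquare (-1 : F)) {A : SL(2, F)} {ε l : F} (hε : ε * ε = 1) (l0 : l ≠ 0)
    (l1 : l * l ≠ 1) (h : trace (A : M₂) = ε * (l + l⁻¹)) : Odd (orderOf (π A)) := by
  have h4 : Fintype.card F % 4 = 3 := by simpa using mt FiniteField.isSquare_neg_one_iff.2 hn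
  have e0 : ε * l ≠ 0 := mul_ne_zero (left_ne_zero_of_mul_eq_one hε) l0
  refine odd1 (l := ε * l) (m := Fintype.card F / 2) (Nat.odd_iff.2 (by omega)) e0
    (fun e => l1 (by linear_combination e - l * l * hε)) ?_ ?_
  · rw [← pow_add, ← FiniteField.pow_card_sub_one_eq_one _ e0]; congr 1; omega
  · rw [h, mul_inv, inv_eq_of_mul_eq_one_right hε, mul_add]

theorem main [Fintype F] (hF : 4 ≤ Fintype.card F) {x y : ProjectiveSpecialLinearGroup (Fin 2) F}
    (hx : orderOf x = 2) (hy : orderOf y = 2) :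
    ∃ z, z * z = 1 ∧ Odd (orderOf (x * z)) ∧ Odd (orderOf (z * y)) := by
  have x2 := (h9_orderOf_eq_two_iff.1 hx).2
  obtain ⟨X, rfl, tX, nX⟩ := of_inv hx
  obtain ⟨Y, rfl, tY, nY⟩ := of_inv hy
  have S : Odd (orderOf (π (X * Y))) → ∃ z, z * z = 1 ∧ Odd (orderOf (π X * z)) ∧ Odd (orderOf (z * π Y)) :=
    fun h => ⟨_, x2, by rw [x2, orderOf_one]; exact odd_one, h⟩
  by_cases h2 : (2 : F) = 0
  · obtain ⟨f, f1, f2, -⟩ := avoid hF (X 1 0 / X 0 1) (Y 1 0 / Y 0 1) 0
    obtain ⟨d, rfl⟩ := FiniteField.isSquare_of_char_two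
      (CharP.ringChar_of_prime_eq_zero Nat.prime_two (by exact_mod_cast h2)) f
    have K : ∀ X : SL(2, F), trace (X : M₂) = 0 → X ∉ center SL(2, F) → d * d ≠ X 1 0 / X 0 1 →
        X 0 1 * (d * d) + X 1 0 ≠ 0 := fun X t n f e => by
      by_cases h0 : X 0 1 = 0
      · rw [trace_fin_two] at t
        refine n (cen_of (c := X 0 0) ?_)
        have h1 : X 1 0 = 0 := by simpa [h0] using e
        have h3 : X 1 1 = X 0 0 := by linear_combination t - X 0 0 * h2
        ext i j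
        fin_cases i <;> fin_cases j <;> simp [h0, h1, h3]
      · exact f (by field_simp; linear_combination e - X 1 0 * h2)
    refine ⟨π (h9_mk (1 + d) 1 (d * d) (1 + d) (by linear_combination d * h2)), inv_of ?_,
      odd3 h2 (A := X * _) fun e => K X tX nX f1 ?_, odd3 h2 (A := _ * Y) fun e => K Y tY nY f2 ?_⟩
    all_goals simp only [trace_fin_two, h9_sl2_mul_apply, h9_mk_00,
      h9_mk_01, h9_mk_10, h9_mk_11] at *
    · linear_combination (1 + d) * h2
    · linear_combination e - (1 + d) * tX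
    · linear_combination e - (1 + d) * tY
  obtain ⟨b, hb⟩ : ∃ b, trace ((X * Y : SL(2, F)) : M₂) = -(2 * b) := ⟨-trace _ / 2, by field_simp⟩
  by_cases b1 : b * b = 1
  · exact S (odd2 h2 (e := -b) (by rw [← b1]; ring) (by rw [hb]; ring))
  by_cases hn : IsSquare (-1 : F)
  · obtain ⟨i, hi⟩ := hn
    have b2 : 1 + b ≠ 0 := fun e => b1 (by linear_combination (b - 1) * e)
    obtain ⟨Z, t0, t1, t2⟩ := build tX tY hb (ε := 1) (α := 1 / (1 + b)) (γ := i / (1 + b)) (one_mul 1)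
      (by field_simp; linear_combination (b * b - 1) * hi)
    exact ⟨π Z, inv_of t0, odd2 h2 (A := X * Z) (e := -1) (by ring) (by rw [t1]; field_simp),
      odd2 h2 (A := Z * Y) (e := -1) (by ring) (by rw [t2]; field_simp)⟩
  by_cases hs : IsSquare (b * b - 1)
  · obtain ⟨s, hs⟩ := hs
    have e : (b + s) * (b - s) = 1 := by linear_combination hs
    have l0 := left_ne_zero_of_mul_eq_one e
    refine S (odd4 hn (ε := -1) (by ring) l0 (fun e' => b1 ?_)
      (by rw [hb, inv_eq_of_mul_eq_one_right e]; ring))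
    have : s = 0 := (mul_eq_zero.1 (show 2 * s = 0 by
      linear_combination mul_left_cancel₀ l0 (e'.trans e.symm))).resolve_left h2
    linear_combination hs + s * this
  · obtain ⟨ε, α, γ, l, hε, l0, l1, h, h'⟩ := key3 hF h2 hn hs
    obtain ⟨Z, t0, t1, t2⟩ := build tX tY hb hε h
    exact ⟨π Z, inv_of t0, odd4 hn (A := X * Z) (ε := -1) (by ring) l0 l1 (by rw [t1, h']; ring),
      odd4 hn (A := Z * Y) (ε := -ε) (by rw [← hε]; ring) l0 l1 (by rw [t2, h']; ring)⟩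

theorem ord2 {A : SL(2, F)} (h : trace (A : M₂) = 0) (h1 : (2 : F) ≠ 0 ∨ A 0 1 ≠ 0) : orderOf (π A) = 2 := by
  refine h9_orderOf_eq_two_iff.2 ⟨fun e => ?_, inv_of h⟩
  obtain ⟨c, hc⟩ := of_cen ((QuotientGroup.eq_one_iff A).1 e)
  have d := A.det_coe
  rcases h1 with h1 | h1
  · rw [hc] at h d
    simp [h1] at h d
    simp [h] at d
  · exact h1 (by simp [hc])

theorem pair [Fintype F] (hF : 4 ≤ Fintype.card F) : ∃ u v : ProjectiveSpecialLinearGroup (Fin 2) F,
    orderOf u = 2 ∧ orderOf v = 2 ∧ orderOf (u * v) = 2 := by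
  by_cases h2 : (2 : F) = 0
  · obtain ⟨w, w0, w1, -⟩ := avoid hF (0 : F) (-1) 0
    refine ⟨π (h9_mk 1 1 0 1 (by ring)), π (h9_mk 1 w 0 1 (by ring)), ord2 ?_ (.inr one_ne_zero),
      ord2 ?_ (.inr w0), ord2 (A := _ * _) ?_ (.inr fun e => w1 ?_)⟩
    all_goals simp only [trace_fin_two, h9_sl2_mul_apply, h9_mk_00,
      h9_mk_01, h9_mk_10, h9_mk_11] at *
    · linear_combination h2
    · linear_combination h2
    · linear_combination h2
    · linear_combination e
  · obtain ⟨a, b, h⟩ := h9_exists_sq_add_sq (Nat.odd_iff.2 (odd_card_of_two_ne h2)) (-1 : F)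
    refine ⟨π (h9_mk 0 1 (-1) 0 (by ring)), π (h9_mk a b b (-a) (by linear_combination -h)), ord2 ?_ (.inl h2),
      ord2 ?_ (.inl h2), ord2 (A := _ * _) ?_ (.inl h2)⟩
    all_goals simp [trace_fin_two, mul_apply]

end

/-- Let F be a finite field with at least 4 elements and let X be a conjugacy class of involutions of PSL(2, F). The graph on X joining two distinct involutions whose product has odd order is connected and has diameter exactly 2. -/
theorem result {F : Type*} [Field F] [Fintype F] (hF : 4 ≤ Fintype.card F)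
    (t : Matrix.ProjectiveSpecialLinearGroup (Fin 2) F) (ht : orderOf t = 2) :
    (SimpleGraph.fromRel fun x y : {x : Matrix.ProjectiveSpecialLinearGroup (Fin 2) F // IsConj t x} =>
        Odd (orderOf (x.1 * y.1))).Connected ∧
      (SimpleGraph.fromRel fun x y : {x : Matrix.ProjectiveSpecialLinearGroup (Fin 2) F // IsConj t x} =>
        Odd (orderOf (x.1 * y.1))).diam = 2 := by
  have o : ∀ x, IsConj t x → orderOf x = 2 := fun x hx => by
    obtain ⟨c, rfl⟩ := isConj_iff.1 hx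
    exact (orderOf_injective (MulAut.conj c).toMonoidHom (MulAut.conj c).injective t).trans ht
  have c : ∀ x, orderOf x = 2 → IsConj t x := fun x hx => by
    obtain ⟨z, z2, e1, e2⟩ := main hF ht hx
    exact (h9_isConj_of_odd (h9_orderOf_eq_two_iff.1 ht).2 z2 e1).trans
      (h9_isConj_of_odd z2 (h9_orderOf_eq_two_iff.1 hx).2 e2)
  obtain ⟨u, v, hu, hv, h⟩ := pair hF
  have u2 := (h9_orderOf_eq_two_iff.1 hu).2
  have v2 := (h9_orderOf_eq_two_iff.1 hv).2
  refine odd_graph (fun x y hx hy => ?_) (c u hu) (c v hv) h ?_ fun e => by simp [← e, u2] at h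
  · obtain ⟨z, z2, e1, e2⟩ := main hF (o x hx) (o y hy)
    exact ⟨z, hx.trans (h9_isConj_of_odd (h9_orderOf_eq_two_iff.1 (o x hx)).2 z2 e1), e1, e2⟩
  · rw [← orderOf_inv, _root_.mul_inv_rev, inv_eq_of_mul_eq_one_right u2, inv_eq_of_mul_eq_one_right v2, h]

end Cfsg.Agent.S3266
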