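import Cfsg.Statements.S3286
import Cfsg.Agent.Lib.InvChar.M12Main
import Cfsg.Agent.Lib.OrderChar.M12

set_option autoImplicit false
open Cfsg

namespace Cfsg.Agent.S3286

/-- Let G be a non-abelian finite simple group containing an involution whose centralizer is isomorphic to the centralizer, in the Mathieu group M₁₂, of an involution lying in the centre of a Sylow 2-subgroup of M₁₂. Then G is isomorphic to M₁₂. -/
theorem result {G : Type*} [Group G] [Finite G] [IsSimpleGroup G] (hG : ¬ IsMulCommutative G)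
    (u : ↥Cfsg.Spor.M12) (hu : Cfsg.IsTwoCentralInvolution u)
    (t : G) (ht : orderOf t = 2) (e : ↥(Subgroup.centralizer ({t} : Set G)) ≃* ↥(Subgroup.centralizer ({u} : Set ↥Cfsg.Spor.M12))) :
    Cfsg.Spor.IsoM12 G := by
  revert u
  rw [Spor.IsoM12, Lib.Golay.M12_eq]
  intro u hu e
  obtain ⟨ψ, h1, h2⟩ := Lib.IC.exists_hom_M12
  have H : Lib.IC.Hyp12 ψ := ⟨h1, h2⟩
  obtain ⟨e1⟩ := Lib.PC.nonempty_centralizer_equiv_of_isConj (H.isConj_of_twoCentral hu)
  let e2 := ((MonoidHom.ofInjective h1).trans (MulEquiv.subgroupCongr h2)).trans (e1.trans e.symm)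
  let φ := (Subgroup.centralizer ({t} : Set G)).subtype.comp e2.toMonoidHom
  have hφ : Function.Injective φ := Subtype.val_injective.comp e2.injective
  have hr : φ.range = Subgroup.centralizer {t} := by
    ext x
    exact ⟨by rintro ⟨a, rfl⟩; exact (e2 a).2, fun hx =>
      ⟨e2.symm ⟨x, hx⟩, congrArg Subtype.val (e2.apply_symm_apply _)⟩⟩
  clear_value φ
  clear e e1 e2
  obtain ⟨p, rfl⟩ : t ∈ φ.range := hr ▸ Subgroup.mem_centralizer_singleton_iff.mpr rfl
  rcases Lib.IC.H192.center_S0 p (fun y _ => hφ (by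
    rw [map_mul, map_mul]
    exact Subgroup.mem_centralizer_singleton_iff.mp (hr ▸ ⟨y, rfl⟩))) with rfl | rfl
  · rw [map_one, orderOf_one] at ht
    omega
  · exact Lib.OC.M12.equiv (Lib.IC.Hyp12.card_eq ⟨hφ, hr⟩ hG)

end Cfsg.Agent.S3286
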