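import Cfsg.Statements.S3297
import Mathlib
import Cfsg.Agent.Lib.GSz.Main

set_option autoImplicit false
open Cfsg

namespace Cfsg.Agent.S3297
open Cfsg.Lib

/-- Let p be a prime and P a Sylow p-subgroup of a finite group G with no nontrivial normal subgroup of order prime to p, with P not normal in G. Suppose (a) two elements of P are conjugate in G only if they are conjugate in N_G(P); (b) the centralizer of every element of order p of P has a normal p-complement; (c) every two elements of order p of G generate a p-solvable subgroup; (d) it is not the case that p = 2 and P is elementary abelian with all its nonidentity elements conjugate in G. Then p = 2 and G is isomorphic to a Suzuki group Sz(q), q = 2^(2m+1) ≥ 8. -/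
theorem result {G : Type*} [Group G] [Finite G] {p : ℕ} [Fact p.Prime] (hcore : Cfsg.pPrimeCore p G = ⊥) (P : Sylow p G)
    (hnn : ¬ (P : Subgroup G).Normal)
    (ha : ∀ x ∈ (P : Subgroup G), ∀ y ∈ (P : Subgroup G), (∃ g : G, g * x * g⁻¹ = y) →
      ∃ n ∈ Subgroup.normalizer ((P : Subgroup G) : Set G), n * x * n⁻¹ = y)
    (hb : ∀ x ∈ (P : Subgroup G), orderOf x = p → Cfsg.HasNormalPComplement p ↥(Subgroup.centralizer ({x} : Set G)))
    (hc : ∀ x y : G, orderOf x = p → orderOf y = p → Cfsg.IsPSolvable p ↥(Subgroup.closure ({x, y} : Set G)))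
    (hd : ¬ (p = 2 ∧ Cfsg.IsElementaryAbelian 2 (P : Subgroup G) ∧
      ∀ x ∈ (P : Subgroup G), ∀ y ∈ (P : Subgroup G), x ≠ 1 → y ≠ 1 → ∃ g : G, g * x * g⁻¹ = y)) :
    p = 2 ∧ Cfsg.Lie.IsoSuzuki G := by
  refine Cfsg.Lib.GSz.glauberman_suzuki (P := (P : Subgroup G))
    ⟨Cfsg.Lib.IsSylowIn.of_sylow_top P, fun x hx g hg => ha x hx _ hg ⟨g, rfl⟩, fun x hx h1 => ?_, hc⟩
    hcore hnn fun ⟨e, a, b⟩ => hd ⟨e, ⟨Cfsg.Lib.isMulCommutative_of_forall fun x hx y hy => ?_, a⟩, b⟩
  · obtain ⟨s, hs, ho⟩ := Cfsg.Lib.sm_exists_mem_orderOf_eq (Fact.out : p.Prime) (Subgroup.zpowers x)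
      (Cfsg.Lib.FT.dvd_card_of_isPGroup_of_ne_bot (P.isPGroup'.to_le (Subgroup.zpowers_le.2 hx))
        (fun e => h1 (Subgroup.zpowers_eq_bot.1 e)))
    refine (hb s (Subgroup.zpowers_le.2 hx hs) ho).to_le fun c hc => ?_
    obtain ⟨j, rfl⟩ := Subgroup.mem_zpowers_iff.1 hs
    exact Subgroup.mem_centralizer_singleton_iff.2
      (Commute.zpow_right (Subgroup.mem_centralizer_singleton_iff.1 hc) j).eq
  · have h1 := a x hx
    have h2 := a y hy
    have h3 := a _ (Subgroup.mul_mem _ hx hy)
    rw [sq] at h1 h2 h3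
    calc x * y = x * (x * y * (x * y)) * y := by rw [h3, mul_one]
      _ = (x * x) * (y * x) * (y * y) := by group
      _ = y * x := by rw [h1, h2]; group

end Cfsg.Agent.S3297
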