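import Cfsg.Statements.S3298
import Cfsg.Agent.Lib.D6.SpB
import Cfsg.Agent.Lib.D6.AltB
import Cfsg.Agent.Lib.D6.AltC
import Cfsg.Agent.Lib.D6.AltD

set_option autoImplicit false
open Cfsg

namespace Cfsg.Agent.S3298
open Subgroup Cfsg.Lib Cfsg.Lib.D6 Cfsg.Lib.FT Cfsg.Lib.GW

/-- Let G be a finite group with an involution α lying in the centre of some Sylow 2-subgroup of G, whose centralizer C_G(α) is isomorphic to the centralizer in the alternating group of degree 12 of a fixed-point-free involution (a product of six disjoint transpositions). Then G is isomorphic to the alternating group of degree 12 or 13, or to the symplectic group Sp₆(2), or G = O(G)·C_G(α) with O(G), the largest normal subgroup of odd order, abelian. -/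
theorem result {G : Type*} [Group G] [Finite G] (α : G) (hα : orderOf α = 2) (S : Sylow 2 G)
    (hαS : α ∈ (S : Subgroup G) ⊓ Subgroup.centralizer ((S : Subgroup G) : Set G))
    (hC : Nonempty (↥(Subgroup.centralizer ({α} : Set G)) ≃*
      ↥(alternatingGroup (Fin 12) ⊓ Subgroup.centralizer ({(Equiv.swap (0 : Fin 12) 1 * Equiv.swap (2 : Fin 12) 3 * Equiv.swap (4 : Fin 12) 5 * Equiv.swap (6 : Fin 12) 7 * Equiv.swap (8 : Fin 12) 9 * Equiv.swap (10 : Fin 12) 11)} : Set (Equiv.Perm (Fin 12))))))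
    : Nonempty (G ≃* ↥(alternatingGroup (Fin 12))) ∨ Nonempty (G ≃* ↥(alternatingGroup (Fin 13))) ∨
      (∃ (F : Type) (_ : Field F) (_ : Fintype F), Fintype.card F = 2 ∧ Nonempty (G ≃* Cfsg.PSp 3 F)) ∨
      (Cfsg.oddCore G ⊔ Subgroup.centralizer ({α} : Set G) = ⊤ ∧ IsMulCommutative ↥(Cfsg.oddCore G)) := by
  obtain ⟨e⟩ := hC
  let ψ : Wg →* G := (Subgroup.subtype _).comp e.symm.toMonoidHom
  have h1 : ∀ g, g * α = α * g → ∃ w, ψ w = g := fun g hg => 
    ⟨e ⟨g, mem_c1.2 hg⟩, congrArg Subtype.val (e.symm_apply_apply _)⟩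
  have inj : Function.Injective ψ := (subtype_injective _).comp e.symm.injective
  have h2 : ψ (av 21) = α := by
    obtain ⟨w, hw⟩ := h1 α rfl
    have h3 : ∀ v, w * v = v * w := fun v => inj (by rw [map_mul, map_mul, hw]; exact (mem_c1.1 (e.symm v).2).symm)
    obtain ⟨c, rfl⟩ := cent_A' fun c => h3 (av c)
    have k : ∀ c, av c * R 10 = R 10 * av c → av c * R 24 = R 24 * av c → c = 0 ∨ c = 21 := by decide +kernel
    rcases k c (h3 _) (h3 _) with rfl | rfl
    · rw [← hw, av_zero, map_one, orderOf_one] at hα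
      exact absurd hα (by decide)
    · exact hw
  have H : Hyp ψ := ⟨inj, h2 ▸ h1, fun h => S.not_dvd_index (h.trans (index_dvd_of_le fun s hs =>
    h1 s (mem_centralizer_iff.1 hαS.2 s hs)))⟩
  by_cases h : IsIsolated (ψ (av 21))
  · exact Or.inr (Or.inr (Or.inr (h2 ▸ H.isolated h)))
  obtain ⟨φ, K, t, ht, g, hg⟩ := H.cases h
  by_cases h3 : t = 2
  · obtain ⟨x, y, X⟩ := (K.hb (h3 ▸ hg)).exists_xd
    have := (K.hb (h3 ▸ hg)).crux X
    exact ((K.hb (h3 ▸ hg)).alt X this.1 this.2).imp_right Or.inl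
  · exact Or.inr (Or.inr (Or.inl ⟨ZMod 2, _, _, ZMod.card 2, HA.sp ⟨K, by simpa [h3] using ht, hg⟩⟩))

end Cfsg.Agent.S3298
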